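import Cfsg.Agent.Lib.BinaryUnitary.CaseTwo

/-!
A binary point stabiliser in `SU₃(q)` with one centre consists of scalar multiples of the
transvections with this centre.
-/

set_option autoImplicit false
set_option linter.unusedSectionVars false
set_option linter.style.haveILetI false

namespace CfsgLib.BinaryUnitary

open Matrix CfsgLib.ClassicalGroups

variable {F : Type*} [Field F] [Fintype F] [CharP F 2] {q : ℕ}

local notation "𝕙" => Cfsg.hermForm 3 F q
local notation "𝕊" => Cfsg.SU 3 F q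

variable {c p d : Fin 3 → F}

/-- The coefficients of an element fixing the first point of a frame. -/
theorem IsFr.upper (hF : Fintype.card F = q ^ 2) (h : IsFr q c p d) {A : 𝕊} {m : F}
    (hm : ap A c = m • c) :
    ∃ a n b g m' : F, ap A p = a • c + n • p ∧ ap A d = b • c + g • p + m' • d ∧
      m' * m ^ q = 1 ∧ n * n ^ q = 1 ∧ m' * a ^ q + g * n ^ q = 0 ∧
      b * m' ^ q + g * g ^ q + m' * b ^ q = 0 ∧ m * n * m' = 1 := by
  have hm0 : m ≠ 0 := fun e => ap_ne_zero A (h.iso hF).1 (by rw [hm, e, zero_smul])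
  have hpc : 𝕙 (ap A p) c = 0 := by
    have h0 := ap_h A p c
    rw [hm, hermForm_smul_right, h.pc] at h0
    exact (mul_eq_zero.1 h0).resolve_left (pow_ne_zero _ hm0)
  have hp := h.decomp hF (ap A p)
  rw [hpc, zero_smul, add_zero] at hp
  obtain ⟨a, ha⟩ : ∃ a, a = 𝕙 (ap A p) d := ⟨_, rfl⟩
  obtain ⟨n, hn⟩ : ∃ n, n = 𝕙 (ap A p) p := ⟨_, rfl⟩
  rw [← ha, ← hn] at hp
  have hd := h.decomp hF (ap A d)
  obtain ⟨b, hb⟩ : ∃ b, b = 𝕙 (ap A d) d := ⟨_, rfl⟩
  obtain ⟨g, hg⟩ : ∃ g, g = 𝕙 (ap A d) p := ⟨_, rfl⟩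
  obtain ⟨m', hm'⟩ : ∃ m', m' = 𝕙 (ap A d) c := ⟨_, rfl⟩
  rw [← hb, ← hg, ← hm'] at hd
  refine ⟨a, n, b, g, m', hp, hd, ?_, ?_, ?_, ?_, ?_⟩
  · have h0 := ap_h A d c
    rw [hm, hermForm_smul_right, ← hm', h.dc hF] at h0
    linear_combination h0
  · have h0 := ap_h A p p
    have h1 := h.h_comb hF a n 0 a n 0
    rw [zero_smul, add_zero, ← hp, h0, h.pp, conj_zero hF] at h1
    linear_combination -h1
  · have h0 := ap_h A d p
    have h1 := h.h_comb hF b g m' a n 0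
    rw [zero_smul, add_zero, ← hp, ← hd, h0, h.dp hF, conj_zero hF] at h1
    linear_combination -h1
  · have h0 := ap_h A d d
    have h1 := h.h_comb hF b g m' b g m'
    rw [← hd, h0, h.dd] at h1
    linear_combination -h1
  · have h0 := det3_ap A c p d
    rw [hm, hp, hd] at h0
    have h1 : det3 (m • c) (a • c + n • p) (b • c + g • p + m' • d) = m * n * m' * det3 c p d := by
      simp only [det3, Matrix.det_fin_three, Matrix.of_apply, Matrix.cons_val_zero, Matrix.cons_val_one,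
        Matrix.cons_val_two, Matrix.tail_cons, Matrix.head_cons, Pi.smul_apply, Pi.add_apply, smul_eq_mul]
      ring
    rw [h1] at h0
    exact mul_right_cancel₀ (det3_ne_zero (h.li hF)) (by rw [h0, one_mul])

variable {H : Subgroup (Cfsg.SU 3 F q)} (S : Setup H)
include S

theorem Setup.fix_centre (hc : InC H c) {A : 𝕊} (hA : A ∈ H) : ∃ m : F, ap A c = m • c := by
  obtain ⟨B, hB, hBc⟩ := id hc
  exact dep_of_orth S.hF hBc.1 (hBc.1.map A).2 (S.no_two (S.inC_map hc hA) hc)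

theorem Setup.norm_one (hfr : IsFr q c p d) (hc : InC H c) {A : 𝕊} (hA : A ∈ H) {m : F}
    (hm : ap A c = m • c) : m * m ^ q = 1 := by
  by_contra hne
  have hm0 : m ≠ 0 := fun e => ap_ne_zero A (hfr.iso S.hF).1 (by rw [hm, e, zero_smul])
  obtain ⟨a0, n0, b0, g0, m0', hp0, -, -, hn0, -, -, -⟩ := hfr.upper S.hF hm
  -- `n ^ (q + 1) = 1`
  have hpn : ∀ j : ℕ, ∃ x : F, ap (A ^ j) p = x • c + n0 ^ j • p := by
    intro j
    induction j with
    | zero => exact ⟨0, by rw [pow_zero, pow_zero, ap_one]; module⟩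
    | succ j ih =>
      obtain ⟨x, hx⟩ := ih
      refine ⟨x * m + n0 ^ j * a0, ?_⟩
      rw [pow_succ', ap_mul, hx, ap_add, ap_smul, ap_smul, hm, hp0]
      module
  obtain ⟨r, hr⟩ : ∃ r, r = m ^ (q + 1) := ⟨_, rfl⟩
  have hr1 : r ≠ 1 := fun e => hne (by rw [← e, hr, pow_succ'])
  have hrfix : r ^ q = r := by rw [hr, fixed_norm S.hF]
  have hr0 : r ≠ 0 := by rw [hr]; exact pow_ne_zero _ hm0
  obtain ⟨x, hx⟩ := hpn (q + 1)
  obtain ⟨A1, hA1e⟩ : ∃ A1, A1 = A ^ (q + 1) := ⟨_, rfl⟩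
  have hA1 : A1 ∈ H := hA1e ▸ H.pow_mem hA _
  have hc1 : ap A1 c = r • c := by rw [hA1e, ap_pow_smul A hm, hr]
  have hp1 : ap A1 p = x • c + p := by
    rw [hA1e, hx, pow_succ', hn0, one_smul]
  obtain ⟨a, n, b, g, m', -, hd1, hm', -, -, -, -⟩ := hfr.upper S.hF hc1
  rw [hrfix] at hm'
  have hm'' : m' = r⁻¹ := eq_inv_of_mul_eq_one_left hm'
  rw [hm''] at hd1
  -- diagonalise
  have hr2 : r⁻¹ + 1 ≠ 0 := fun e => hr1 (inv_eq_one.1 (CharTwo.add_eq_zero.1 e))
  have hr3 : r⁻¹ + r ≠ 0 := fun e => hr1 (by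
    have h0 := CharTwo.add_eq_zero.1 e
    refine CharTwo.sq_inj.1 ?_
    rw [one_pow, pow_two]
    nth_rewrite 1 [← h0]
    exact inv_mul_cancel₀ hr0)
  have hr4 : r + 1 ≠ 0 := fun e => hr1 (CharTwo.add_eq_zero.1 e)
  obtain ⟨t, ht⟩ : ∃ t, t * (r + 1) = x := ⟨x / (r + 1), div_mul_cancel₀ _ hr4⟩
  obtain ⟨u, hu⟩ : ∃ u, u * (r⁻¹ + 1) = g := ⟨g / (r⁻¹ + 1), div_mul_cancel₀ _ hr2⟩
  obtain ⟨w, hw⟩ : ∃ w, w * (r⁻¹ + r) = b + u * x := ⟨(b + u * x) / (r⁻¹ + r), div_mul_cancel₀ _ hr3⟩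
  obtain ⟨p', hp'⟩ : ∃ p', p' = t • c + p := ⟨_, rfl⟩
  obtain ⟨d', hd'⟩ : ∃ d', d' = w • c + u • p + d := ⟨_, rfl⟩
  have hep : ap A1 p' = p' := by
    rw [hp', ap_add, ap_smul, hc1, hp1]
    have : t * r + x = t := by linear_combination -ht + CharTwo.add_self_eq_zero (t * r)
    conv_rhs => rw [← this]
    module
  have hed : ap A1 d' = r⁻¹ • d' := by
    rw [hd', ap_add, ap_add, ap_smul, ap_smul, hc1, hp1, hd1]
    have h1 : w * r + u * x + b = r⁻¹ * w := by
      linear_combination -hw + CharTwo.add_self_eq_zero (w * r)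
    have h2 : u + g = r⁻¹ * u := by linear_combination -hu + CharTwo.add_self_eq_zero u
    funext i
    simp only [Pi.add_apply, Pi.smul_apply, smul_eq_mul]
    linear_combination c i * h1 + p i * h2
  have hpp' : 𝕙 p' p' = 1 := by
    have := hfr.h_comb S.hF t 1 0 t 1 0
    rw [one_smul, zero_smul, add_zero, ← hp'] at this
    rw [this, conj_zero S.hF, one_pow]
    ring
  have hpc' : 𝕙 p' c = 0 := by rw [hp', hermForm_add_left, hermForm_smul_left, hfr.cc, hfr.pc]; ring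
  have hcd' : 𝕙 c d' = 1 := by
    rw [hd', hermForm_add_right S.hF, hermForm_add_right S.hF, hermForm_smul_right,
      hermForm_smul_right, hfr.cc, hfr.cp S.hF, hfr.cd]
    ring
  have hdd' : 𝕙 d' d' = 0 := by
    have h0 := ap_h A1 d' d'
    rw [hed, hermForm_smul_left, hermForm_smul_right, inv_pow, hrfix] at h0
    by_contra hX
    have h1 : r⁻¹ * r⁻¹ = 1 := mul_right_cancel₀ hX (by linear_combination h0)
    exact hr1 (inv_eq_one.1 (CharTwo.sq_inj.1 (by rw [pow_two, h1, one_pow])))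
  have hpd' : 𝕙 p' d' = 0 := by
    have h0 := ap_h A1 p' d'
    rw [hep, hed, hermForm_smul_right, inv_pow, hrfix] at h0
    by_contra hX
    exact hr1 (inv_eq_one.1 (mul_right_cancel₀ hX (by linear_combination h0)))
  have hfr' : IsFr q c p' d' := ⟨hfr.cc, hdd', hcd', hpp', hpc', hpd'⟩
  have hcc : 𝕙 (c + d') (c + d') = 0 := by
    rw [hermForm_add_left, hermForm_add_right S.hF, hermForm_add_right S.hF, hfr.cc, hdd', hcd',
      hfr'.dc S.hF]
    linear_combination CharTwo.add_self_eq_zero (1 : F)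
  obtain ⟨y, hy⟩ := exists_tv S.hF hcc (one_pow q)
  have hz1 : 𝕙 c (c + d') = 1 := by rw [hermForm_add_right S.hF, hfr.cc, hcd', zero_add]
  have hz2 : 𝕙 d' (c + d') = 1 := by rw [hermForm_add_right S.hF, hdd', hfr'.dc S.hF, add_zero]
  have hyc : ap y c = d' := by
    rw [hy, hz1, one_mul, one_smul]
    funext i
    simp only [Pi.add_apply]
    linear_combination CharTwo.add_self_eq_zero (c i)
  have hyd : ap y d' = c := by
    rw [hy, hz2, one_mul, one_smul]
    funext i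
    simp only [Pi.add_apply]
    linear_combination CharTwo.add_self_eq_zero (d' i)
  have hyp : ap y p' = p' := hy.orth (by rw [hermForm_add_right S.hF, hpc', hpd', add_zero])
  have hyT : IsT y (c + d') := ⟨⟨fun e => by rw [e, hermForm_zero_right S.hF] at hz1; exact zero_ne_one hz1,
    hcc⟩, 1, one_ne_zero, one_pow q, hy⟩
  have hyy : y * y = 1 := hy.sq hcc
  have hl2 : y * A1 * (y * A1) = 1 := by
    refine hfr'.ap_ext S.hF ?_ ?_ ?_ <;> rw [ap_one, ap_mul, ap_mul, ap_mul]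
    · rw [hc1, ap_smul, hyc, ap_smul, hed, ap_smul, ap_smul, hyd, smul_smul, mul_inv_cancel₀ hr0,
        one_smul]
    · rw [hep, hyp, hep, hyp]
    · rw [hed, ap_smul, hyd, ap_smul, hc1, ap_smul, ap_smul, hyc, smul_smul, inv_mul_cancel₀ hr0,
        one_smul]
  have hA1sq : A1 * A1 ≠ 1 := fun e => by
    have h0 : (r * r) • c = (1 : F) • c := by
      rw [one_smul, ← smul_smul, ← hc1, ← ap_smul, ← hc1, ← ap_mul, e, ap_one]
    exact hr1 (CharTwo.sq_inj.1 (by rw [pow_two, smul_left_injective F (hfr.iso S.hF).1 h0, one_pow]))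
  have hl : orderOf (y * A1) = 2 := by
    refine orderOf_eq_prime (by rw [pow_two]; exact hl2) fun h0 => hA1sq ?_
    have hg : A1 = y := by rw [← one_mul A1, ← hyy, mul_assoc, h0, mul_one]
    rw [hg, hyy]
  obtain ⟨v, hv⟩ := exists_isT_of_involution S.hF hl
  have hcv : 𝕙 (c + d') v ≠ 0 := by
    intro h0
    obtain ⟨j, hj⟩ := dep_of_orth S.hF hv.1 hyT.1.2 h0
    have hj0 : j ≠ 0 := fun e0 => hyT.1.1 (by rw [hj, e0, zero_smul])
    have h11 : IsT (y * A1) (c + d') := hj ▸ hv.smul S.hF hj0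
    have h12 := hyT.comm h11
    have e1 : A1 = y * A1 * y := by
      calc A1 = y * (y * A1) := by rw [← mul_assoc, hyy, one_mul]
        _ = y * A1 * y := h12
    refine hA1sq ?_
    calc A1 * A1 = A1 * (y * A1 * y) := by rw [← e1]
      _ = (y * y) * (A1 * (y * A1 * y)) := by rw [hyy, one_mul]
      _ = y * (y * A1 * (y * A1)) * y := by group
      _ = 1 := by rw [hl2, mul_one, hyy]
  have hnew := S.inC_of_prod hyT hv hcv (by rwa [← mul_assoc, hyy, one_mul])
  have h16 := S.no_two hnew hc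
  rw [hermForm_add_left, hfr.cc, hfr'.dc S.hF, zero_add] at h16
  exact one_ne_zero h16

/-- No reflection in `H`. -/
theorem Setup.no_reflection (hfr : IsFr q c p d) (hc : InC H c) {R : 𝕊} (hR : R ∈ H) {m n : F}
    (h1 : ap R c = m • c) (h2 : ap R p = n • p) (h3 : ap R d = m • d) : m = n := by
  by_contra hmn
  have hm1 := S.norm_one hfr hc hR h1
  obtain ⟨_, n', _, _, m', hpn, hdm, _, _, _, _, hdet⟩ := hfr.upper S.hF h1
  have hn' : n' = n := by
    have := congrArg (fun v => 𝕙 v p) hpn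
    simp only [h2, hermForm_add_left, hermForm_smul_left, hfr.cp S.hF, hfr.pp] at this
    linear_combination -this
  have hm' : m' = m := by
    have := congrArg (fun v => 𝕙 v c) hdm
    simp only [h3, hermForm_add_left, hermForm_smul_left, hfr.cc, hfr.pc, hfr.dc S.hF] at this
    linear_combination -this
  rw [hn', hm'] at hdet
  obtain ⟨e, he⟩ := exists_eta S.hF
  obtain ⟨z, hz, hz3⟩ := exists_zeta S.hF S.four
  obtain ⟨hff, hef⟩ := hfr.second S.hF he
  have hz0 : z ≠ 0 := fun e0 => hz3 (by rw [e0, zero_pow (by omega)] at hz; exact absurd hz zero_ne_one)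
  have hzq : z ^ q = z⁻¹ := eq_inv_of_mul_eq_one_left (by rw [← pow_succ]; exact hz)
  obtain ⟨e₁, he₁⟩ : ∃ v, v = e • c + d := ⟨_, rfl⟩
  obtain ⟨e₂, he₂⟩ : ∃ v, v = z • ((e + 1) • c + d) := ⟨_, rfl⟩
  have h11 : 𝕙 e₁ e₁ = 1 := by rw [he₁, hfr.e_unit S.hF, he]
  have h22 : 𝕙 e₂ e₂ = 1 := by
    rw [he₂, hermForm_smul_left, hermForm_smul_right, hff, hzq, mul_one, mul_inv_cancel₀ hz0]
  have h12 : 𝕙 e₁ e₂ = 0 := by rw [he₁, he₂, hermForm_smul_right, hef, mul_zero]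
  have h1p : 𝕙 e₁ p = 0 := by rw [he₁, hfr.e_p S.hF]
  have hp1 : 𝕙 p e₁ = 0 := by rw [he₁, hfr.p_e S.hF]
  have h2p : 𝕙 e₂ p = 0 := by rw [he₂, hermForm_smul_left, hfr.e_p S.hF, mul_zero]
  have hp2 : 𝕙 p e₂ = 0 := by rw [he₂, hermForm_smul_right, hfr.p_e S.hF, mul_zero]
  have h21 : 𝕙 e₂ e₁ = 0 := by rw [hermForm_symm S.hF 3 e₁ e₂, h12, conj_zero S.hF]
  obtain ⟨g, g1, g2, g3⟩ := exists_cycle S.hF h11 h22 hfr.pp h12 hp1 hp2
  have hf : (e + 1) • c + d = z⁻¹ • e₂ := by rw [he₂, smul_smul, inv_mul_cancel₀ hz0, one_smul]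
  have hext : ∀ g k : 𝕊, ap g e₁ = ap k e₁ → ap g e₂ = ap k e₂ → ap g p = ap k p → g = k := by
    intro g k a b c'
    refine hfr.ap_ext_e S.hF e (by rw [← he₁]; exact a) ?_ c'
    rw [hf, ap_smul g, ap_smul k, b]
  have hR1 : ap R e₁ = m • e₁ := by rw [he₁, ap_add, ap_smul, h1, h3]; module
  have hR2 : ap R e₂ = m • e₂ := by rw [he₂, ap_smul, ap_add, ap_smul, h1, h3]; module
  have gi1 : ap g⁻¹ e₁ = p := by conv_lhs => rw [← g3, ap_inv_ap]
  have gi2 : ap g⁻¹ e₂ = e₁ := by conv_lhs => rw [← g1, ap_inv_ap]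
  have gi3 : ap g⁻¹ p = e₂ := by conv_lhs => rw [← g2, ap_inv_ap]
  have hg3 : g ^ 3 = 1 := by
    refine hext _ _ ?_ ?_ ?_ <;> rw [ap_one, pow_succ, pow_two, ap_mul, ap_mul]
    · rw [g1, g2, g3]
    · rw [g2, g3, g1]
    · rw [g3, g1, g2]
  have hRg : (R * g⁻¹) ^ 3 = 1 := by
    refine hext _ _ ?_ ?_ ?_ <;> rw [ap_one, pow_succ, pow_two] <;>
      simp only [ap_mul, ap_smul, gi1, gi2, gi3, hR1, hR2, h2, smul_smul]
    · rw [show n * (m * m) = 1 by linear_combination hdet, one_smul]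
    · rw [show m * (n * m) = 1 by linear_combination hdet, one_smul]
    · rw [show m * (m * n) = 1 by linear_combination hdet, one_smul]
  obtain ⟨B, hB, hB1, hB2⟩ := S.triple hR hg3 hRg
  obtain ⟨b, hb⟩ := S.fix_centre hc hB
  obtain ⟨b', hb'⟩ := S.fix_centre hc hB1
  obtain ⟨k, hk⟩ := S.fix_centre hc hB2
  have hbn := S.norm_one hfr hc hB hb
  have hB1c : ap B (ap g c) = b' • ap g c := by
    have h0 := congrArg (ap g) hb'
    rwa [ap_mul, ap_mul, ap_ap_inv, ap_smul] at h0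
  obtain ⟨c1, hc1⟩ : ∃ v, v = ap g c := ⟨_, rfl⟩
  obtain ⟨c2, hc2⟩ : ∃ v, v = ap (g * g) c := ⟨_, rfl⟩
  rw [← hc1] at hB1c
  have hB2c : ap R c2 = k • ap B c2 := by
    have h0 := congrArg (fun v => ap B (ap (g * g) v)) hk
    simp only [ap_mul (g * g)⁻¹, ap_mul _ (g * g), ap_ap_inv, ap_smul, ap_mul B⁻¹ R, ← hc2] at h0
    exact h0
  have hce : c = e₁ + z⁻¹ • e₂ := by
    rw [he₂, smul_smul, inv_mul_cancel₀ hz0, one_smul, he₁]
    funext i
    simp only [Pi.add_apply, Pi.smul_apply, smul_eq_mul]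
    linear_combination -CharTwo.add_self_eq_zero (e * c i) - CharTwo.add_self_eq_zero (d i)
  have hc1' : c1 = e₂ + z⁻¹ • p := by rw [hc1, hce, ap_add, ap_smul, g1, g2]
  have hc2' : c2 = p + z⁻¹ • e₁ := by rw [hc2, ap_mul, ← hc1, hc1', ap_add, ap_smul, g2, g3]
  have hRc2 : ap R c2 = n • p + (m * z⁻¹) • e₁ := by
    rw [hc2', ap_add, ap_smul, h2, hR1, smul_smul, mul_comm]
  have hzi : (z⁻¹) ^ q = z := by rw [inv_pow, hzq, inv_inv]
  have i1 : 𝕙 c1 c = z := by
    rw [hc1', hce]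
    simp only [hermForm_add_left, hermForm_add_right S.hF, hermForm_smul_left, hermForm_smul_right,
      h21, h22, hp1, hp2, hzi]
    ring
  have i2 : 𝕙 c2 c = z⁻¹ := by
    rw [hc2', hce]
    simp only [hermForm_add_left, hermForm_add_right S.hF, hermForm_smul_left, hermForm_smul_right,
      h11, h12, hp1, hp2, hzi]
    ring
  have i3 : 𝕙 c2 c1 = z := by
    rw [hc2', hc1']
    simp only [hermForm_add_left, hermForm_add_right S.hF, hermForm_smul_left, hermForm_smul_right,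
      h12, h1p, hp2, hfr.pp, hzi]
    ring
  have i4 : 𝕙 (ap R c2) c = m * z⁻¹ := by
    rw [hRc2, hce]
    simp only [hermForm_add_left, hermForm_add_right S.hF, hermForm_smul_left, hermForm_smul_right,
      h11, h12, hp1, hp2, hzi]
    ring
  have i5 : 𝕙 (ap R c2) c1 = n * z := by
    rw [hRc2, hc1']
    simp only [hermForm_add_left, hermForm_add_right S.hF, hermForm_smul_left, hermForm_smul_right,
      h12, h1p, hp2, hfr.pp, hzi]
    ring
  have hb0 : b ^ q ≠ 0 := fun e0 => by rw [e0, mul_zero] at hbn; exact zero_ne_one hbn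
  have hbb : b' = b := by
    have h0 := ap_h B c1 c
    rw [hB1c, hb, hermForm_smul_left, hermForm_smul_right, i1] at h0
    have : b' * b ^ q = b * b ^ q := by
      rw [hbn]; exact mul_right_cancel₀ hz0 (by linear_combination h0)
    exact mul_right_cancel₀ hb0 this
  rw [hbb] at hB1c
  have j1 := ap_h B c2 c
  rw [hb, hermForm_smul_right, i2] at j1
  have j2 := ap_h B c2 c1
  rw [hB1c, hermForm_smul_right, i3] at j2
  rw [hB2c, hermForm_smul_left] at i4 i5
  have hm2 : b ^ q * m = k := mul_right_cancel₀ (inv_ne_zero hz0) (by linear_combination k * j1 - b ^ q * i4)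
  have hn2 : b ^ q * n = k := mul_right_cancel₀ hz0 (by linear_combination k * j2 - b ^ q * i5)
  exact hmn (mul_left_cancel₀ hb0 (hm2.trans hn2.symm))

/-- Every element of `H` has a single eigenvalue. -/
theorem Setup.scalar_unipotent (hfr : IsFr q c p d) (hc : InC H c) {A : 𝕊} (hA : A ∈ H) :
    ∃ m a b g : F, ap A c = m • c ∧ ap A p = a • c + m • p ∧ ap A d = b • c + g • p + m • d ∧
      m * m ^ q = 1 ∧ m ^ 3 = 1 ∧ m * a ^ q + g * m ^ q = 0 ∧
      b * m ^ q + g * g ^ q + m * b ^ q = 0 := by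
  obtain ⟨m, hm⟩ := S.fix_centre hc hA
  have hm1 := S.norm_one hfr hc hA hm
  obtain ⟨a, n, b, g, m', hp, hd, hm', hn, e1, e2, e3⟩ := hfr.upper S.hF hm
  have hmm : m' = m := mul_right_cancel₀ (fun e => by rw [e, mul_zero] at hm1; exact zero_ne_one hm1)
    (hm'.trans hm1.symm)
  rw [hmm] at hd e1 e2 e3
  suffices hnm : n = m by
    rw [hnm] at hp e1 e3
    exact ⟨m, a, b, g, hm, hp, hd, hm1, by linear_combination e3, e1, e2⟩
  by_contra hnm
  have hnm0 : n + m ≠ 0 := fun e => hnm (CharTwo.add_eq_zero.1 e)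
  obtain ⟨t, ht⟩ : ∃ t, t * (n + m) = a := ⟨a / (n + m), div_mul_cancel₀ _ hnm0⟩
  obtain ⟨M, hM⟩ := exists_trace S.hF (fixed_norm S.hF t)
  obtain ⟨p', hp'⟩ : ∃ v, v = t • c + p := ⟨_, rfl⟩
  obtain ⟨d', hd'⟩ : ∃ v, v = M • c + t ^ q • p + d := ⟨_, rfl⟩
  have hep : ap A p' = n • p' := by
    rw [hp', ap_add, ap_smul, hm, hp]
    have : t * m + a = n * t := by linear_combination -ht + CharTwo.add_self_eq_zero (t * m)
    rw [smul_add, smul_smul n t c, ← this]
    module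
  have hfr' : IsFr q c p' d' := by
    refine ⟨hfr.cc, ?_, ?_, ?_, ?_, ?_⟩
    · have := hfr.h_comb S.hF M (t ^ q) 1 M (t ^ q) 1
      rw [one_smul, ← hd'] at this
      rw [this, conj_conj' S.hF, one_pow]
      rw [pow_succ] at hM
      linear_combination hM + CharTwo.add_self_eq_zero (t ^ q * t)
    · have := hfr.h_comb S.hF 1 0 0 M (t ^ q) 1
      rw [one_smul, zero_smul, zero_smul, add_zero, add_zero, one_smul, ← hd'] at this
      rw [this, one_pow]; ring
    · have := hfr.h_comb S.hF t 1 0 t 1 0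
      rw [one_smul, zero_smul, add_zero, ← hp'] at this
      rw [this, conj_zero S.hF, one_pow]; ring
    · rw [hp', hermForm_add_left, hermForm_smul_left, hfr.cc, hfr.pc]; ring
    · have := hfr.h_comb S.hF t 1 0 M (t ^ q) 1
      rw [one_smul, zero_smul, add_zero, ← hp', one_smul, ← hd'] at this
      rw [this, conj_conj' S.hF, one_pow]
      linear_combination CharTwo.add_self_eq_zero t
  obtain ⟨a', n', b', g', m'', hp2, hd2, hm'', hn', f1, f2, -⟩ := hfr'.upper S.hF hm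
  have hmm' : m'' = m := mul_right_cancel₀ (fun e => by rw [e, mul_zero] at hm1; exact zero_ne_one hm1)
    (hm''.trans hm1.symm)
  have ha' : a' = 0 := by
    have := congrArg (fun v => 𝕙 v d') hp2
    simp only [hep, hermForm_add_left, hermForm_smul_left, hfr'.cd, hfr'.pd] at this
    linear_combination -this
  have hn'0 : n' ≠ 0 := fun e => by rw [e, zero_mul] at hn'; exact zero_ne_one hn'
  have hg' : g' = 0 := by
    rw [ha', conj_zero S.hF, mul_zero, zero_add] at f1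
    exact (mul_eq_zero.1 f1).resolve_right (pow_ne_zero _ hn'0)
  rw [hmm', hg'] at hd2 f2
  rw [zero_smul, add_zero] at hd2
  have hm0 : m ≠ 0 := fun e => by rw [e, zero_mul] at hm1; exact zero_ne_one hm1
  obtain ⟨s, hs⟩ : ∃ s, s * m = b' := ⟨b' / m, div_mul_cancel₀ _ hm0⟩
  have hsfix : s ^ q = s := by
    rw [← hs, mul_pow, zero_mul, add_zero] at f2
    have : s + s ^ q = 0 := by linear_combination f2 - (s + s ^ q) * hm1
    exact (CharTwo.add_eq_zero.1 this).symm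
  obtain ⟨T, hT⟩ := exists_tv S.hF hfr.cc hsfix
  refine hnm (S.no_reflection hfr' hc (H.mul_mem hA (S.mem_tv hc hsfix hT)) (m := m) (n := n) ?_ ?_ ?_).symm
  · rw [ap_mul, hT.self hfr.cc, hm]
  · rw [ap_mul, hT.orth hfr'.pc, hep]
  · rw [ap_mul, hT, hfr'.dc S.hF, mul_one, ap_add, ap_smul, hm, hd2, ← hs]
    funext i
    simp only [Pi.add_apply, Pi.smul_apply, smul_eq_mul]
    linear_combination CharTwo.add_self_eq_zero (s * m * c i)

/-- An element of `H` fixing a second isotropic point is scalar. -/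
theorem Setup.scalar_of_fix_two (hc : InC H c) {A : 𝕊} (hA : A ∈ H) {e : Fin 3 → F} (he : Iso q e)
    (hce : 𝕙 c e ≠ 0) {k : F} (hk : ap A e = k • e) : ∃ m : F, ∀ x, ap A x = m • x := by
  obtain ⟨B, hB, hBc⟩ := id hc
  obtain ⟨p, r, hr, hfr⟩ := exists_frame_pair S.hF hBc.1 he hce
  obtain ⟨m, a, b, g, hm, hp, hd, hm1, -, e1, -⟩ := S.scalar_unipotent hfr hc hA
  have hkd : ap A (r • e) = k • (r • e) := by rw [ap_smul, hk, smul_comm]
  rw [hkd] at hd
  have hg : g = 0 := by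
    have := congrArg (fun v => 𝕙 v p) hd
    simp only [hermForm_add_left, hermForm_smul_left (n := 3) k, hermForm_smul_left (n := 3) b,
      hermForm_smul_left (n := 3) g, hermForm_smul_left (n := 3) m, hfr.cp S.hF, hfr.pp,
      hfr.dp S.hF] at this
    linear_combination -this
  have hb : b = 0 := by
    have := congrArg (fun v => 𝕙 v (r • e)) hd
    simp only [hermForm_add_left, hermForm_smul_left (n := 3) k, hermForm_smul_left (n := 3) b,
      hermForm_smul_left (n := 3) g, hermForm_smul_left (n := 3) m, hfr.cd, hfr.pd, hfr.dd] at this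
    linear_combination -this
  have hm0 : m ≠ 0 := fun e0 => by rw [e0, zero_mul] at hm1; exact zero_ne_one hm1
  have ha : a = 0 := by
    rw [hg, zero_mul, add_zero] at e1
    exact eq_zero_of_pow_eq_zero ((mul_eq_zero.1 e1).resolve_left hm0)
  rw [ha, zero_smul, zero_add] at hp
  rw [hb, hg, zero_smul, zero_smul, zero_add, zero_add] at hd
  refine ⟨m, fun x => ?_⟩
  conv_lhs => rw [hfr.decomp S.hF x]
  rw [ap_add, ap_add, ap_smul A (𝕙 x (r • e)), ap_smul A (𝕙 x p), ap_smul A (𝕙 x c), hm, hp, hkd, hd]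
  conv_rhs => rw [hfr.decomp S.hF x]
  module

/-- The structure of `H`. -/
theorem Setup.structure_one (hfr : IsFr q c p d) (hc : InC H c) {A : 𝕊} (hA : A ∈ H) :
    ∃ Z ∈ Subgroup.center 𝕊, ∃ s : F, s ^ q = s ∧ TV (Z⁻¹ * A) c s := by
  obtain ⟨m, a0, b0, g0, hm, hp0, hd0, hm1, hm3, f1, f2⟩ := S.scalar_unipotent hfr hc hA
  have hm0 : m ≠ 0 := fun e => by rw [e, zero_mul] at hm1; exact zero_ne_one hm1
  obtain ⟨Z, hZ⟩ := exists_map S.hF (x := ![c, p, d]) (y := ![m • c, m • p, m • d]) (hfr.li S.hF)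
    (by
      have h0 := (hfr.li S.hF).units_smul (w := fun _ => Units.mk0 m hm0)
      convert h0 using 1
      funext i
      fin_cases i <;> rfl)
    (by
      intro i j
      fin_cases i <;> fin_cases j <;>
        simp [hermForm_smul_left, hermForm_smul_right] <;>
        linear_combination (-(𝕙 _ _)) * hm1)
    (by simp [det3_smul]; linear_combination (-(det3 c p d)) * hm3)
  have hZx : ∀ x, ap Z x = m • x := by
    intro x
    conv_lhs => rw [hfr.decomp S.hF x]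
    have z0 : ap Z c = m • c := hZ 0
    have z1 : ap Z p = m • p := hZ 1
    have z2 : ap Z d = m • d := hZ 2
    rw [ap_add, ap_add, ap_smul, ap_smul, ap_smul, z0, z1, z2]
    conv_rhs => rw [hfr.decomp S.hF x]
    module
  have hZc : Z ∈ Subgroup.center 𝕊 :=
    Subgroup.mem_center_iff.2 fun g => ap_ext fun x => by rw [ap_mul, ap_mul, hZx, hZx, ap_smul]
  have hZi : ∀ x, ap Z⁻¹ x = m⁻¹ • x := fun x => ap_inv_smul Z hm0 (hZx x)
  obtain ⟨U, hU⟩ : ∃ U, U = Z⁻¹ * A := ⟨_, rfl⟩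
  have hUH : U ∈ H := hU ▸ H.mul_mem (H.inv_mem (S.center_le hZc)) hA
  obtain ⟨a, ha⟩ : ∃ a, a * m = a0 := ⟨a0 / m, div_mul_cancel₀ _ hm0⟩
  obtain ⟨b, hb⟩ : ∃ b, b * m = b0 := ⟨b0 / m, div_mul_cancel₀ _ hm0⟩
  obtain ⟨g, hg⟩ : ∃ g, g * m = g0 := ⟨g0 / m, div_mul_cancel₀ _ hm0⟩
  have hUc : ap U c = c := by
    rw [hU, ap_mul, hm, ap_smul, hZi, smul_smul, mul_inv_cancel₀ hm0, one_smul]
  have hUp : ap U p = a • c + p := by
    rw [hU, ap_mul, hp0, hZi, smul_add, smul_smul, smul_smul, ← ha, mul_comm a m, ← mul_assoc,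
      inv_mul_cancel₀ hm0, one_mul, one_smul]
  have hUd : ap U d = b • c + g • p + d := by
    rw [hU, ap_mul, hd0, hZi, smul_add, smul_add, smul_smul, smul_smul, smul_smul, ← hb, ← hg,
      mul_comm b m, mul_comm g m, ← mul_assoc, ← mul_assoc, inv_mul_cancel₀ hm0, one_mul, one_mul,
      one_smul]
  have hga : g = a ^ q := by
    rw [← ha, ← hg, mul_pow] at f1
    have : g + a ^ q = 0 := by linear_combination f1 - (g + a ^ q) * hm1
    exact CharTwo.add_eq_zero.1 this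
  have hbb : b + b ^ q = a ^ q * a := by
    rw [← hb, ← hg, mul_pow, mul_pow, hga, conj_conj' S.hF] at f2
    linear_combination f2 - (b + b ^ q + a ^ q * a) * hm1 - CharTwo.add_self_eq_zero (a ^ q * a) +
      CharTwo.add_self_eq_zero (0 : F)
  by_cases ha0 : a = 0
  · refine ⟨Z, hZc, b, ?_, ?_⟩
    · rw [ha0, mul_zero] at hbb
      exact (CharTwo.add_eq_zero.1 hbb).symm
    · intro x
      rw [← hU]
      conv_lhs => rw [hfr.decomp S.hF x]
      rw [ap_add, ap_add, ap_smul, ap_smul, ap_smul, hUc, hUp, hUd, hga, ha0, conj_zero S.hF]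
      conv_rhs => arg 1; rw [hfr.decomp S.hF x]
      module
  exfalso
  -- a unipotent element of order four
  have hb0 : b ≠ 0 := fun e => ha0 (by
    rw [e, conj_zero S.hF, add_zero] at hbb
    rcases mul_eq_zero.1 hbb.symm with h | h
    · exact eq_zero_of_pow_eq_zero h
    · exact h)
  obtain ⟨z, hz, hz3⟩ := exists_cube_not_fixed S.hF S.four
  obtain ⟨t, htd⟩ : ∃ t, t = (z ^ 3 + (z ^ 3) ^ q) * (a ^ q * a) /
      ((z ^ (q + 1)) ^ 2 * b ^ (q + 1)) := ⟨_, rfl⟩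
  have haa : a ^ q * a = a ^ (q + 1) := (pow_succ a q).symm
  have htfix : t ^ q = t := by
    rw [htd, haa, div_pow, mul_pow, mul_pow, fixed_add_conj S.hF, fixed_norm S.hF, ← pow_mul _ 2 q,
      mul_comm 2 q, pow_mul, fixed_norm S.hF, fixed_norm S.hF]
  have hden : (z ^ (q + 1)) ^ 2 * b ^ (q + 1) ≠ 0 :=
    mul_ne_zero (pow_ne_zero _ (pow_ne_zero _ hz)) (pow_ne_zero _ hb0)
  have ht0 : t ≠ 0 := by
    rw [htd]
    exact div_ne_zero (mul_ne_zero hz3 (mul_ne_zero (pow_ne_zero _ ha0) ha0)) hden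
  have ht : t * ((z ^ (q + 1)) ^ 2 * b ^ (q + 1)) = (z ^ 3 + (z ^ 3) ^ q) * (a ^ q * a) := by
    rw [htd, div_mul_cancel₀ _ hden]
  obtain ⟨s, hsd⟩ : ∃ s, s = t * z := ⟨_, rfl⟩
  have hs0 : s ≠ 0 := hsd ▸ mul_ne_zero ht0 hz
  obtain ⟨u, hu⟩ : ∃ u, u = s ^ q := ⟨_, rfl⟩
  have hu0 : u ≠ 0 := hu ▸ pow_ne_zero _ hs0
  have huq : u ^ q = s := by rw [hu, conj_conj' S.hF]
  obtain ⟨β, hβ⟩ : ∃ β, β = u * b ^ q / a := ⟨_, rfl⟩
  have hβ0 : β ≠ 0 := hβ ▸ div_ne_zero (mul_ne_zero hu0 (pow_ne_zero _ hb0)) ha0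
  have hβq : β ^ q * a ^ q = s * b := by
    rw [← mul_pow, hβ, div_mul_cancel₀ _ ha0, mul_pow, huq, conj_conj' S.hF]
  have hnorm : β * β ^ q * (s * u) = s ^ 3 + u ^ 3 := by
    have h1 : β * β ^ q * (a ^ q * a) = s * u * (b ^ (q + 1)) := by
      have h2 : β * a = u * b ^ q := by rw [hβ, div_mul_cancel₀ _ ha0]
      calc β * β ^ q * (a ^ q * a) = (β * a) * (β ^ q * a ^ q) := by ring
        _ = _ := by rw [h2, hβq, pow_succ]; ring
    have h3 : u = t * z ^ q := by rw [hu, hsd, mul_pow, htfix]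
    refine mul_right_cancel₀ (mul_ne_zero (pow_ne_zero q ha0) ha0) ?_
    calc β * β ^ q * (s * u) * (a ^ q * a) = s * u * (b ^ (q + 1)) * (s * u) := by rw [← h1]; ring
      _ = t ^ 3 * (t * ((z ^ (q + 1)) ^ 2 * b ^ (q + 1))) := by rw [h3, hsd, pow_succ z]; ring
      _ = _ := by rw [ht, h3, hsd]; ring
  obtain ⟨c1, hc1⟩ : ∃ v, v = s • d := ⟨_, rfl⟩
  obtain ⟨c2, hc2⟩ : ∃ v, v = (s / u) • c + β • p + u • d := ⟨_, rfl⟩
  have k1 : 𝕙 c1 c = s := by rw [hc1, hermForm_smul_left, hfr.dc S.hF, mul_one]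
  have k2 : 𝕙 c2 c = u := by rw [hc2, hfr.h_c S.hF]
  have k3 : 𝕙 c2 c1 = s := by
    rw [hc1, hermForm_smul_right, hc2, hfr.h_d S.hF, ← hu, mul_div_cancel₀ _ hu0]
  have k4 : 𝕙 c2 c2 = 0 := by
    rw [hc2, hfr.h_comb S.hF, div_pow, huq, ← hu]
    field_simp
    linear_combination hnorm + CharTwo.add_self_eq_zero (s ^ 3 + u ^ 3)
  have k5 : 𝕙 c1 c1 = 0 := by
    rw [hc1, hermForm_smul_left, hermForm_smul_right, hfr.dd, mul_zero, mul_zero]
  have k1' : 𝕙 c c1 = u := by rw [hermForm_symm S.hF 3 c1 c, k1, hu]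
  have k2' : 𝕙 c c2 = s := by rw [hermForm_symm S.hF 3 c2 c, k2, huq]
  have k3' : 𝕙 c1 c2 = u := by rw [hermForm_symm S.hF 3 c2 c1, k3, hu]
  have hli : LinearIndependent F ![c, c1, c2] := by
    rw [Fintype.linearIndependent_iff]
    intro f hf
    simp only [Fin.sum_univ_three, Matrix.cons_val_zero, Matrix.cons_val_one, Matrix.cons_val_two,
      Matrix.tail_cons, Matrix.head_cons] at hf
    have e : f 0 • c + f 1 • c1 + f 2 • c2 =
        (f 0 + f 2 * (s / u)) • c + (f 2 * β) • p + (f 1 * s + f 2 * u) • d := by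
      rw [hc1, hc2]; module
    rw [e] at hf
    have x0 := hfr.h_d S.hF (f 0 + f 2 * (s / u)) (f 2 * β) (f 1 * s + f 2 * u)
    have x1 := hfr.h_p S.hF (f 0 + f 2 * (s / u)) (f 2 * β) (f 1 * s + f 2 * u)
    have x2 := hfr.h_c S.hF (f 0 + f 2 * (s / u)) (f 2 * β) (f 1 * s + f 2 * u)
    rw [hf, hermForm_zero_left] at x0 x1 x2
    have y2 : f 2 = 0 := (mul_eq_zero.1 x1.symm).resolve_right hβ0
    rw [y2, zero_mul, add_zero] at x0 x2
    intro i
    fin_cases i
    · exact x0.symm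
    · exact (mul_eq_zero.1 x2.symm).resolve_right hs0
    · exact y2
  obtain ⟨G, hG⟩ := exists_map S.hF (x := ![c, c1, c2]) (y := ![c1, c2, c]) hli
    (by
      have h0 := hli.comp ![(1 : Fin 3), 2, 0] (by decide)
      convert h0 using 1
      funext i
      fin_cases i <;> rfl)
    (by
      intro i j
      fin_cases i <;> fin_cases j <;> simp [k1, k2, k3, k4, k5, k1', k2', k3', hfr.cc])
    (by simp [det3_cycle])
  have G0 : ap G c = c1 := hG 0
  have G1 : ap G c1 = c2 := hG 1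
  have G2 : ap G c2 = c := hG 2
  have Gd : ap G d = s⁻¹ • c2 := by
    rw [← G1, hc1, ap_smul, smul_smul, inv_mul_cancel₀ hs0, one_smul]
  have hpexp : p = β⁻¹ • (c2 + (s / u) • c + (u / s) • c1) := by
    rw [eq_comm, inv_smul_eq_iff₀ hβ0, hc2, hc1, smul_smul, div_mul_cancel₀ _ hs0]
    funext i
    simp only [Pi.add_apply, Pi.smul_apply, smul_eq_mul]
    linear_combination (s / u * c i + u * d i) * CharTwo.two_eq_zero (R := F)
  have Gp : ap G p = β⁻¹ • (c + (s / u) • c1 + (u / s) • c2) := by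
    conv_lhs => rw [hpexp, ap_smul, ap_add, ap_add, ap_smul, ap_smul, G2, G0, G1]
  have hG3 : G ^ 3 = 1 := by
    have e0 : ap (G ^ 3) c = c := by rw [pow_succ, pow_two, ap_mul, ap_mul, G0, G1, G2]
    have e1 : ap (G ^ 3) c1 = c1 := by rw [pow_succ, pow_two, ap_mul, ap_mul, G1, G2, G0]
    have e2 : ap (G ^ 3) c2 = c2 := by rw [pow_succ, pow_two, ap_mul, ap_mul, G2, G0, G1]
    have ed : ap (G ^ 3) d = d := by
      have h0 : d = s⁻¹ • c1 := by rw [hc1, smul_smul, inv_mul_cancel₀ hs0, one_smul]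
      conv_lhs => rw [h0, ap_smul, e1, ← h0]
    refine hfr.ap_ext S.hF (by rw [ap_one, e0]) ?_ (by rw [ap_one, ed])
    rw [ap_one]
    conv_lhs => rw [hpexp, ap_smul, ap_add, ap_add, ap_smul, ap_smul, e0, e1, e2, ← hpexp]
  have htr : (U * G).1.1.trace = 0 := by
    have hUv : ∀ x y z : F, ap U (x • c + y • p + z • d) =
        (x + a * y + b * z) • c + (y + g * z) • p + z • d := by
      intro x y z
      rw [ap_add, ap_add, ap_smul, ap_smul, ap_smul, hUc, hUp, hUd]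
      module
    rw [hfr.trace S.hF, ap_mul, ap_mul, ap_mul, G0, Gd, Gp]
    have v1 : c1 = (0 : F) • c + (0 : F) • p + s • d := by rw [hc1]; module
    have v2 : s⁻¹ • c2 = (s⁻¹ * (s / u)) • c + (s⁻¹ * β) • p + (s⁻¹ * u) • d := by rw [hc2]; module
    have v3 : β⁻¹ • (c + (s / u) • c1 + (u / s) • c2) =
        (β⁻¹ * (1 + u / s * (s / u))) • c + (β⁻¹ * (u / s * β)) • p +
          (β⁻¹ * (s / u * s + u / s * u)) • d := by
      rw [hc2, hc1]; module
    rw [v2, v3, v1, hUv, hUv, hUv, hfr.h_d S.hF, hfr.h_p S.hF, hfr.h_c S.hF, hga]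
    field_simp
    linear_combination (-(a ^ q)) * hnorm + (β * (s * u)) * hβq +
      (β * u * u + β * s * s * u * b) * CharTwo.two_eq_zero (R := F)
  have hUG : (U * G⁻¹⁻¹) ^ 3 = 1 := by rw [inv_inv]; exact pow_three_of_trace_zero S.hF _ htr
  obtain ⟨B, hB, hB1, hB2⟩ := S.triple hUH (g := G⁻¹) (by rw [inv_pow, hG3, inv_one]) hUG
  have hg1 : ap G⁻¹ c = c2 := by rw [← G2, ap_inv_ap]
  have hg2 : ap (G⁻¹ * G⁻¹) c = c1 := by rw [ap_mul, hg1, ← G1, ap_inv_ap]
  have hi1 : Iso q c1 := by rw [← hg2]; exact (hfr.iso S.hF).map _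
  have hi2 : Iso q c2 := by rw [← hg1]; exact (hfr.iso S.hF).map _
  obtain ⟨j, hj⟩ := S.fix_centre hc hB1
  obtain ⟨l, hl⟩ := S.fix_centre hc hB2
  have hB2' : ap B c2 = j • c2 := by
    have h0 := congrArg (ap G⁻¹) hj
    rwa [ap_mul, ap_mul, ap_ap_inv, ap_smul, hg1] at h0
  obtain ⟨r, hr⟩ := S.scalar_of_fix_two hc hB hi2 (by rw [k2']; exact hs0) hB2'
  have hU1 : ap U c1 = (r * l) • c1 := by
    have h0 := congrArg (fun v => ap B (ap (G⁻¹ * G⁻¹) v)) hl
    simp only [ap_mul (G⁻¹ * G⁻¹)⁻¹, ap_mul _ (G⁻¹ * G⁻¹), ap_ap_inv, ap_smul, ap_mul B⁻¹ U, hg2,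
      hr, smul_smul] at h0
    rw [← hr (ap B⁻¹ (ap U c1)), ap_ap_inv] at h0
    exact h0
  obtain ⟨r', hr'⟩ := S.scalar_of_fix_two hc hUH hi1 (by rw [k1']; exact hu0) hU1
  have h0 := hr' p
  rw [hUp] at h0
  have := congrArg (fun v => 𝕙 v d) h0
  simp only [hermForm_add_left, hermForm_smul_left, hfr.cd, hfr.pd] at this
  exact ha0 (by linear_combination this)

end CfsgLib.BinaryUnitary
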