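import Cfsg.Agent.Lib.BinaryUnitary.Tools

/-!
No binary action of `SU₃(q)` has a point stabiliser containing transvections with two centres.
-/

set_option autoImplicit false
set_option linter.unusedSectionVars false
set_option linter.style.haveILetI false

namespace CfsgLib.BinaryUnitary

open Matrix CfsgLib.ClassicalGroups CfsgLib.BinaryAct CfsgLib.BinaryInvol MulAction
open scoped Pointwise

variable {F : Type*} [Field F] [Fintype F] [CharP F 2] {q : ℕ}

local notation "𝕙" => Cfsg.hermForm 3 F q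
local notation "𝕊" => Cfsg.SU 3 F q

variable {H : Subgroup (Cfsg.SU 3 F q)} (S : Setup H)
include S

/-- The triple argument. -/
theorem Setup.triple {A g : 𝕊} (hA : A ∈ H) (hg : g ^ 3 = 1) (hAg : (A * g⁻¹) ^ 3 = 1) :
    ∃ B ∈ H, g⁻¹ * B * g ∈ H ∧ (g * g)⁻¹ * (B⁻¹ * A) * (g * g) ∈ H := by
  obtain ⟨B, hB, h1, h2⟩ := S.binary.exists_fix (ι := Unit) (fun _ => g) (g * g) A hA (fun _ => by
    refine ⟨g * A⁻¹ * g⁻¹, ?_, ?_⟩
    · rw [show g⁻¹ * (g * A⁻¹ * g⁻¹) * g = A⁻¹ by group]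
      exact H.inv_mem hA
    · have hg' : g * g = g⁻¹ := eq_inv_of_mul_eq_one_left (by
        rw [← hg, pow_succ, pow_two])
      have e1 : A * g⁻¹ * A * g⁻¹ * A * g⁻¹ = 1 := by
        rw [← hAg, pow_succ, pow_two]; group
      rw [hg', inv_inv]
      have e2 : g⁻¹ * A * g⁻¹ * A * g⁻¹ = A⁻¹ :=
        eq_inv_of_mul_eq_one_right (by rw [← e1]; group)
      have e3 : g * ((g * A⁻¹ * g⁻¹)⁻¹ * A) * g⁻¹ = A⁻¹ := by
        have hgg : g * g = g⁻¹ := hg'
        calc g * ((g * A⁻¹ * g⁻¹)⁻¹ * A) * g⁻¹ = (g * g) * A * g⁻¹ * A * g⁻¹ := by group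
          _ = g⁻¹ * A * g⁻¹ * A * g⁻¹ := by rw [hgg]
          _ = A⁻¹ := e2
      rw [e3]
      exact H.inv_mem hA)
  exact ⟨B, hB, h1 (), h2⟩

variable {c p d : Fin 3 → F}

/-- The elements of `H` fixing `p` are transitive on the unit vectors of the plane. -/
theorem Setup.reach (hfr : IsFr q c p d) (hc : InC H c) (hd : InC H d) {e : F} (he : e + e ^ q = 1)
    {x y : F} (hxy : x * y ^ q + y * x ^ q = 1) :
    ∃ A ∈ H, ap A p = p ∧ ap A (x • c + y • d) = e • c + d := by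
  have hmoveC : ∀ s : F, s ^ q = s → ∀ x y : F,
      ∃ A ∈ H, ap A p = p ∧ ap A (x • c + y • d) = (x + s * y) • c + y • d := by
    intro s hs x y
    obtain ⟨A, hA⟩ := exists_tv S.hF hfr.cc hs
    refine ⟨A, S.mem_tv hc hs hA, hA.orth hfr.pc, ?_⟩
    rw [hA, hermForm_add_left, hermForm_smul_left, hermForm_smul_left, hfr.cc, hfr.dc S.hF]
    module
  have hmoveD : ∀ s : F, s ^ q = s → ∀ x y : F,
      ∃ A ∈ H, ap A p = p ∧ ap A (x • c + y • d) = x • c + (y + s * x) • d := by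
    intro s hs x y
    obtain ⟨A, hA⟩ := exists_tv S.hF hfr.dd hs
    refine ⟨A, S.mem_tv hd hs hA, hA.orth hfr.pd, ?_⟩
    rw [hA, hermForm_add_left, hermForm_smul_left, hermForm_smul_left, hfr.dd, hfr.cd]
    module
  have comp : ∀ {v w z : Fin 3 → F}, (∃ A ∈ H, ap A p = p ∧ ap A v = w) →
      (∃ A ∈ H, ap A p = p ∧ ap A w = z) → ∃ A ∈ H, ap A p = p ∧ ap A v = z := by
    rintro v w z ⟨A, hA, a1, a2⟩ ⟨B, hB, b1, b2⟩
    exact ⟨B * A, H.mul_mem hB hA, by rw [ap_mul, a1, b1], by rw [ap_mul, a2, b2]⟩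
  have main : ∀ x y : F, x * y ^ q + y * x ^ q = 1 → y + y ^ q ≠ 0 →
      ∃ A ∈ H, ap A p = p ∧ ap A (x • c + y • d) = e • c + d := by
    intro x y hxy ha
    obtain ⟨a, had⟩ : ∃ a, a = y + y ^ q := ⟨_, rfl⟩
    obtain ⟨s, hsd⟩ : ∃ s, s = (x + x ^ q + 1) / a := ⟨_, rfl⟩
    have ha' : a ≠ 0 := had ▸ ha
    have hafix : a ^ q = a := by rw [had]; exact fixed_add_conj S.hF y
    have hsfix : s ^ q = s := by
      rw [hsd, div_pow, hafix, conj_add S.hF, fixed_add_conj S.hF, one_pow]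
    have hsa : s * a = x + x ^ q + 1 := by rw [hsd, div_mul_cancel₀ _ ha']
    have hy1 : y + a * (x + s * y) = 1 := by
      linear_combination y * hsa + x * had + hxy + CharTwo.add_self_eq_zero (x * y) +
        CharTwo.add_self_eq_zero y
    obtain ⟨x', hx'⟩ : ∃ x', x' = x + s * y := ⟨_, rfl⟩
    have htr : x' + x' ^ q = 1 := by
      have h1 : x' * (y + a * x') ^ q + (y + a * x') * x' ^ q = 1 := by
        rw [conj_add S.hF, mul_pow, hafix, hx', conj_add S.hF, mul_pow, hsfix]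
        linear_combination hxy + CharTwo.add_self_eq_zero (a * (x + s * y) * (x ^ q + s * y ^ q)) +
          CharTwo.add_self_eq_zero (s * y * y ^ q)
      rw [show y + a * x' = 1 by rw [hx']; exact hy1, one_pow, mul_one, one_mul] at h1
      exact h1
    have hfix : (x' + e) ^ q = x' + e := by
      rw [conj_add S.hF]
      linear_combination htr + he - CharTwo.add_self_eq_zero x' - CharTwo.add_self_eq_zero e +
        CharTwo.add_self_eq_zero (1 : F)
    have h1 := hmoveC s hsfix x y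
    have h2 := hmoveD a hafix (x + s * y) y
    have h3 := hmoveC (x' + e) hfix x' 1
    rw [hy1] at h2
    rw [hx'] at h3
    have h4 := comp (comp h1 h2) h3
    rw [one_smul] at h4
    rwa [show x + s * y + (x + s * y + e) * 1 = e by
      linear_combination CharTwo.add_self_eq_zero (x + s * y)] at h4
  by_cases ha : y + y ^ q = 0
  · have hyy : y ^ q = y := (CharTwo.add_eq_zero.1 ha).symm
    have h1 := hmoveD 1 (one_pow q) x y
    refine comp h1 (main x (y + 1 * x) ?_ ?_)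
    · rw [one_mul, conj_add S.hF]
      linear_combination hxy + CharTwo.add_self_eq_zero (x * x ^ q)
    · rw [one_mul, conj_add S.hF, hyy]
      intro h
      have h2 : y * (x + x ^ q) = 1 := by
        rw [← hxy, hyy]; ring
      have h3 : x + x ^ q = 0 := by
        linear_combination h - CharTwo.add_self_eq_zero y
      rw [h3, mul_zero] at h2
      exact zero_ne_one h2
  · exact main x y hxy ha

/-- The centres in `H` are collinear with `c` and `d`. -/
theorem Setup.inC_perp (hfr : IsFr q c p d) (hc : InC H c) (hd : InC H d) {u : Fin 3 → F}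
    (hu : InC H u) : 𝕙 u p = 0 := by
  by_contra hz
  obtain ⟨e, he⟩ := exists_eta S.hF
  have hui : Iso q u := by obtain ⟨A, -, hA⟩ := hu; exact hA.1
  have hoff : ∀ v, Iso q v → 𝕙 v p ≠ 0 → ∃ A ∈ H, ∃ k : F, k ≠ 0 ∧
      ap A v = k • (e • c + p + d) := by
    intro v hv hvp
    obtain ⟨w, hw, hwd⟩ : ∃ w, w = (𝕙 v p)⁻¹ • v ∧ 𝕙 w p = 1 :=
      ⟨_, rfl, by rw [hermForm_smul_left, inv_mul_cancel₀ hvp]⟩
    have hwi : 𝕙 w w = 0 := by rw [hw]; exact (hv.smul (inv_ne_zero hvp)).2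
    have hdec := hfr.decomp S.hF w
    rw [hwd] at hdec
    have hcomb := hfr.h_comb S.hF (𝕙 w d) 1 (𝕙 w c) (𝕙 w d) 1 (𝕙 w c)
    rw [← hdec, hwi, one_pow, one_mul] at hcomb
    obtain ⟨A, hA, hAp, hAx⟩ := S.reach hfr hc hd he (x := 𝕙 w d) (y := 𝕙 w c) (by
      linear_combination -hcomb + CharTwo.add_self_eq_zero (0 : F) - CharTwo.add_self_eq_zero (1 : F))
    refine ⟨A, hA, 𝕙 v p, hvp, ?_⟩
    have h1 : ap A w = e • c + p + d := by
      rw [hdec, ap_add, ap_add, one_smul, hAp,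
        show ap A (𝕙 w d • c) + p + ap A (𝕙 w c • d) = ap A (𝕙 w d • c + 𝕙 w c • d) + p by
          rw [ap_add]; abel, hAx]
      abel
    have h2 : v = 𝕙 v p • w := by rw [hw, smul_smul, mul_inv_cancel₀ hvp, one_smul]
    conv_lhs => rw [h2, ap_smul, h1]
  have hline : ∀ v, Iso q v → 𝕙 v p = 0 → InC H v := by
    intro v hv hvp
    have hdec := hfr.decomp S.hF v
    rw [hvp, zero_smul, add_zero] at hdec
    by_cases hy : 𝕙 v c = 0
    · rw [hy, zero_smul, add_zero] at hdec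
      rw [hdec]
      exact S.inC_smul hc fun e0 => hv.1 (by rw [hdec, e0, zero_smul])
    · obtain ⟨x, hx⟩ : ∃ x, x = 𝕙 v d := ⟨_, rfl⟩
      obtain ⟨y, hy'⟩ : ∃ y, y = 𝕙 v c := ⟨_, rfl⟩
      rw [← hx, ← hy'] at hdec
      have hy0 : y ≠ 0 := hy' ▸ hy
      have hcomb := hfr.h_comb S.hF x 0 y x 0 y
      rw [zero_smul, add_zero, ← hdec, hv.2, zero_mul, add_zero] at hcomb
      have hs : (x / y) ^ q = x / y := by
        rw [div_pow, div_eq_div_iff (pow_ne_zero _ hy0) hy0]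
        linear_combination -hcomb - CharTwo.add_self_eq_zero (x * y ^ q) + CharTwo.add_self_eq_zero (0:F)
      obtain ⟨A, hA⟩ := exists_tv S.hF hfr.cc hs
      have h2 : ap A (y • d) = v := by
        rw [hA, hermForm_smul_left, hfr.dc S.hF, mul_one, div_mul_cancel₀ _ hy0, hdec, add_comm]
      rw [← h2]
      exact S.inC_map (S.inC_smul hd hy0) (S.mem_tv hc hs hA)
  refine S.not_all fun v hv => ?_
  by_cases hvp : 𝕙 v p = 0
  · exact hline v hv hvp
  · obtain ⟨A, hA, k, hk, hAv⟩ := hoff v hv hvp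
    obtain ⟨B, hB, l, hl, hBu⟩ := hoff u hui hz
    have h1 : InC H (ap A v) := by
      have h2 := S.inC_smul (S.inC_map hu hB) (k := k * l⁻¹) (mul_ne_zero hk (inv_ne_zero hl))
      rw [hBu, smul_smul, mul_assoc, inv_mul_cancel₀ hl, mul_one, ← hAv] at h2
      exact h2
    have h2 := S.inC_map h1 (H.inv_mem hA)
    rwa [ap_inv_ap] at h2

/-- The determinant of an element diagonal on an orthogonal triple. -/
theorem Setup.det_diag (hfr : IsFr q c p d) {e : F} {g : 𝕊} {a b n : F}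
    (h1 : ap g (e • c + d) = a • (e • c + d)) (h2 : ap g ((e + 1) • c + d) = b • ((e + 1) • c + d))
    (h3 : ap g p = n • p) : a * b * n = 1 := by
  have hli : det3 (e • c + d) ((e + 1) • c + d) p ≠ 0 := by
    have h0 := det3_ne_zero (hfr.li S.hF)
    have : det3 (e • c + d) ((e + 1) • c + d) p = det3 c p d := by
      simp only [det3, Matrix.det_fin_three, Matrix.of_apply, Matrix.cons_val_zero, Matrix.cons_val_one,
        Matrix.cons_val_two, Matrix.tail_cons, Matrix.head_cons, Pi.smul_apply, Pi.add_apply, smul_eq_mul]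
      linear_combination
    rw [this]; exact h0
  have := det3_ap g (e • c + d) ((e + 1) • c + d) p
  rw [h1, h2, h3, det3_smul] at this
  exact mul_right_cancel₀ hli (by rw [this, one_mul])

/-- An element diagonal on the first unit vector and on `p` is diagonal on the second unit vector. -/
theorem Setup.eigen_second (hfr : IsFr q c p d) {e : F} (he : e + e ^ q = 1) {g : 𝕊} {a n : F}
    (h1 : ap g (e • c + d) = a • (e • c + d)) (h3 : ap g p = n • p) (ha : a ≠ 0) (hn : n ≠ 0) :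
    ∃ y : F, ap g ((e + 1) • c + d) = y • ((e + 1) • c + d) ∧ a * y * n = 1 := by
  obtain ⟨hff, hef⟩ := hfr.second S.hF he
  have h4 : 𝕙 (ap g ((e + 1) • c + d)) (e • c + d) = 0 := by
    have h0 := ap_h g ((e + 1) • c + d) (e • c + d)
    rw [h1, hermForm_smul_right, hermForm_symm S.hF 3 (e • c + d) ((e + 1) • c + d), hef,
      conj_zero S.hF] at h0
    exact (mul_eq_zero.1 h0).resolve_left (pow_ne_zero _ ha)
  have h5 : 𝕙 (ap g ((e + 1) • c + d)) p = 0 := by
    have h0 := ap_h g ((e + 1) • c + d) p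
    rw [hfr.e_p S.hF, h3, hermForm_smul_right] at h0
    exact (mul_eq_zero.1 h0).resolve_left (pow_ne_zero _ hn)
  set w := ap g ((e + 1) • c + d) with hw
  have h6 := hfr.decomp S.hF w
  rw [h5, zero_smul, add_zero] at h6
  obtain ⟨x, hx⟩ : ∃ x, x = 𝕙 w d := ⟨_, rfl⟩
  obtain ⟨y, hy⟩ : ∃ y, y = 𝕙 w c := ⟨_, rfl⟩
  rw [← hx, ← hy] at h6
  have h7 : x + y * e ^ q = 0 := by
    rw [hermForm_add_right S.hF, hermForm_smul_right, ← hx, ← hy] at h4
    linear_combination h4
  have h8 : x = y * (e + 1) := by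
    linear_combination h7 - y * he - CharTwo.add_self_eq_zero y
  have h10 : w = y • ((e + 1) • c + d) := by rw [h6, h8]; module
  exact ⟨y, h10, S.det_diag hfr h1 h10 h3⟩

/-- No two centres. -/
theorem Setup.no_two {u v : Fin 3 → F} (hu : InC H u) (hv : InC H v) : 𝕙 u v = 0 := by
  by_contra huv
  have hui : Iso q u := by obtain ⟨A, -, hA⟩ := hu; exact hA.1
  have hvi : Iso q v := by obtain ⟨A, -, hA⟩ := hv; exact hA.1
  obtain ⟨p, k, hk, hfr⟩ := exists_frame_pair S.hF hui hvi huv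
  have hd : InC H (k • v) := S.inC_smul hv hk
  obtain ⟨e, he⟩ := exists_eta S.hF
  obtain ⟨hff, hef⟩ := hfr.second S.hF he
  have hee : 𝕙 (e • u + k • v) (e • u + k • v) = 1 := by rw [hfr.e_unit S.hF, he]
  set e₁ := e • u + k • v with he₁
  set e₂ := (e + 1) • u + k • v with he₂
  have hpe₁ : 𝕙 p e₁ = 0 := hfr.p_e S.hF e
  have hpe₂ : 𝕙 p e₂ = 0 := hfr.p_e S.hF (e + 1)
  have he₁p : 𝕙 e₁ p = 0 := hfr.e_p S.hF e
  have he₂p : 𝕙 e₂ p = 0 := hfr.e_p S.hF (e + 1)
  -- every element of `H` fixes `p` up to a scalar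
  have hHp : ∀ g ∈ H, ap g p = 𝕙 (ap g p) p • p ∧ 𝕙 (ap g p) p * (𝕙 (ap g p) p) ^ q = 1 := by
    intro g hg
    have h1 : 𝕙 p (ap g u) = 0 := by
      rw [hermForm_symm S.hF 3 (ap g u) p, S.inC_perp hfr hu hd (S.inC_map hu hg), conj_zero S.hF]
    have h2 : 𝕙 p (ap g (k • v)) = 0 := by
      rw [hermForm_symm S.hF 3 (ap g (k • v)) p, S.inC_perp hfr hu hd (S.inC_map hd hg), conj_zero S.hF]
    have hfr' : IsFr q (ap g u) (ap g p) (ap g (k • v)) :=
      ⟨(ap_h g _ _).trans hfr.cc, (ap_h g _ _).trans hfr.dd, (ap_h g _ _).trans hfr.cd,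
        (ap_h g _ _).trans hfr.pp, (ap_h g _ _).trans hfr.pc, (ap_h g _ _).trans hfr.pd⟩
    have h3 := hfr'.decomp S.hF p
    rw [h1, h2, zero_smul, zero_smul, zero_add, add_zero] at h3
    have hnorm : 𝕙 p (ap g p) * (𝕙 p (ap g p)) ^ q = 1 := by
      have h4 := congrArg (fun w => 𝕙 w w) h3
      simp only [hermForm_smul_left, hermForm_smul_right, ap_h, hfr.pp, mul_one] at h4
      rw [mul_comm]; exact h4.symm
    have hne : 𝕙 p (ap g p) ≠ 0 := fun e0 => by rw [e0, zero_mul] at hnorm; exact zero_ne_one hnorm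
    have hsym : 𝕙 (ap g p) p = (𝕙 p (ap g p)) ^ q := hermForm_symm S.hF 3 p (ap g p)
    refine ⟨?_, by rw [hsym, conj_conj' S.hF, mul_comm]; exact hnorm⟩
    have h5 : ap g p = (𝕙 p (ap g p))⁻¹ • p := by
      conv_rhs => arg 2; rw [h3]
      rw [smul_smul, inv_mul_cancel₀ hne, one_smul]
    rwa [hsym, show (𝕙 p (ap g p)) ^ q = (𝕙 p (ap g p))⁻¹ from eq_inv_of_mul_eq_one_right hnorm]
  -- the elements of `H` with the first unit vector fixed
  have hnorm1 : ∀ g ∈ H, ∃ g' ∈ H, ap g' e₁ = e₁ ∧ ap g' p = ap g p := by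
    intro g hg
    obtain ⟨hgp, hn⟩ := hHp g hg
    have hne : 𝕙 (ap g p) p ≠ 0 := fun e0 => by rw [e0, zero_mul] at hn; exact zero_ne_one hn
    have hperp : 𝕙 (ap g e₁) p = 0 := by
      have h0 := ap_h g e₁ p
      rw [he₁p, hgp, hermForm_smul_right] at h0
      exact (mul_eq_zero.1 h0).resolve_left (pow_ne_zero _ hne)
    have hdec := hfr.decomp S.hF (ap g e₁)
    rw [hperp, zero_smul, add_zero] at hdec
    have hcomb := hfr.h_comb S.hF (𝕙 (ap g e₁) (k • v)) 0 (𝕙 (ap g e₁) u) (𝕙 (ap g e₁) (k • v)) 0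
      (𝕙 (ap g e₁) u)
    rw [zero_smul, add_zero, ← hdec, ap_h, hee, zero_mul, add_zero] at hcomb
    obtain ⟨A, hA, hAp, hAx⟩ := S.reach hfr hu hd he hcomb.symm
    refine ⟨A * g, H.mul_mem hA hg, by rw [ap_mul, hdec, hAx, he₁], ?_⟩
    rw [ap_mul, hgp, ap_smul, hAp]
  -- the scalar on `p` is one
  have hfix : ∀ g ∈ H, ap g p = p := by
    intro g hg
    obtain ⟨g', hg', h1, h2⟩ := hnorm1 g hg
    obtain ⟨hgp, hn⟩ := hHp g' hg'
    set n := 𝕙 (ap g' p) p
    rw [← h2, hgp]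
    by_contra hne
    have hn1 : n ≠ 1 := fun e0 => hne (by rw [e0, one_smul])
    have hn0 : n ≠ 0 := fun e0 => by rw [e0, zero_mul] at hn; exact zero_ne_one hn
    obtain ⟨l, h3, hl1⟩ := S.eigen_second hfr he (g := g') (a := 1) (n := n) (by rw [one_smul]; exact h1)
      hgp one_ne_zero hn0
    rw [← he₂] at h3
    have hln : l * n = 1 := by rwa [one_mul] at hl1
    obtain ⟨y, hy, hy1, hy2, hy3⟩ := exists_swap S.hF hff hfr.pp he₂p
    have hy4 : ap y e₁ = e₁ := hy3 e₁ hef he₁p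
    have hyy : y * y = 1 := by rw [← pow_two, ← IsT.orderOf S.hF hy, pow_orderOf_eq_one]
    have hl2 : y * g' * (y * g') = 1 := by
      refine hfr.ap_ext_e S.hF e ?_ ?_ ?_ <;> rw [ap_one, ap_mul, ap_mul, ap_mul]
      · rw [← he₁, h1, hy4, h1, hy4]
      · rw [← he₂, h3, ap_smul, hy1, ap_smul, hgp, ap_smul, ap_smul, hy2, smul_smul, hln, one_smul]
      · rw [hgp, ap_smul, hy2, ap_smul, h3, ap_smul, ap_smul, hy1, smul_smul, mul_comm, hln, one_smul]
    have hl : orderOf (y * g') = 2 := by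
      refine orderOf_eq_prime (by rw [pow_two]; exact hl2) fun h0 => ?_
      have hg'y : g' = y := by rw [← one_mul g', ← hyy, mul_assoc, h0, mul_one]
      rw [hg'y, hy2] at hgp
      have h10 := congrArg (fun w => 𝕙 w p) hgp
      simp only [hermForm_smul_left, he₂p, hfr.pp, mul_one] at h10
      exact hn0 h10.symm
    obtain ⟨w, hw⟩ := exists_isT_of_involution S.hF hl
    have hin : y * (y * g') ∈ H := by rwa [← mul_assoc, hyy, one_mul]
    have hcw : 𝕙 (e₂ + p) w ≠ 0 := by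
      intro h0
      obtain ⟨j, hj⟩ := dep_of_orth S.hF hw.1 hy.1.2 h0
      have hj0 : j ≠ 0 := fun e0 => hy.1.1 (by rw [hj, e0, zero_smul])
      have h11 : IsT (y * g') (e₂ + p) := hj ▸ hw.smul S.hF hj0
      have h12 := hy.comm h11
      have h13 : g' * g' = 1 := by
        have e1 : g' = y * g' * y := by
          calc g' = y * (y * g') := by rw [← mul_assoc, hyy, one_mul]
            _ = y * g' * y := h12
        calc g' * g' = g' * (y * g' * y) := by rw [← e1]
          _ = y * (y * g' * (y * g')) * y := by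
            rw [show y * (y * g' * (y * g')) * y = (y * y) * (g' * (y * g' * y)) by group, hyy,
              one_mul]
          _ = 1 := by rw [hl2, mul_one, hyy]
      have h14 : (n * n) • p = (1 : F) • p := by
        rw [one_smul, ← smul_smul, ← hgp, ← ap_smul, ← hgp, ← ap_mul, h13, ap_one]
      have h15 := congrArg (fun z => 𝕙 z p) h14
      simp only [hermForm_smul_left, hfr.pp, mul_one] at h15
      exact hn1 (CharTwo.sq_inj.1 (by rw [pow_two, h15, one_pow]))
    have hnew := S.inC_of_prod hy hw hcw hin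
    have h16 := S.inC_perp hfr hu hd hnew
    rw [hermForm_add_left, he₂p, hfr.pp, zero_add] at h16
    exact one_ne_zero h16
  -- the triple
  obtain ⟨z, hz, hz3⟩ := exists_zeta S.hF S.four
  obtain ⟨g, g1, g2, g3⟩ := exists_cycle S.hF hee hff hfr.pp hef hpe₁ hpe₂
  obtain ⟨A, hA, hAp, hAe⟩ := S.reach hfr hu hd he (x := z * e) (y := z) (by
    rw [mul_pow]; rw [pow_succ] at hz
    linear_combination (e + e ^ q) * hz + he)
  rw [show (z * e) • u + z • k • v = z • e₁ by rw [he₁]; module, ap_smul] at hAe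
  have hz0 : z ≠ 0 := fun e0 => by rw [e0, zero_pow (by omega)] at hz; exact zero_ne_one hz
  have hA1 : ap A e₁ = z⁻¹ • e₁ := by
    have h0 : z • ap A e₁ = e₁ := hAe
    conv_rhs => rw [← h0]
    rw [smul_smul, inv_mul_cancel₀ hz0, one_smul]
  have hA2 : ap A e₂ = z • e₂ := by
    obtain ⟨y, h10, hd1⟩ := S.eigen_second hfr he (g := A) (a := z⁻¹) (n := 1) hA1
      (by rw [one_smul]; exact hAp) (inv_ne_zero hz0) one_ne_zero
    rw [mul_one, inv_mul_eq_one₀ hz0] at hd1
    rw [he₂, h10, hd1]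
  have hg3 : g ^ 3 = 1 := by
    refine hfr.ap_ext_e S.hF e ?_ ?_ ?_ <;>
      rw [ap_one, pow_succ, pow_two, ap_mul, ap_mul]
    · rw [← he₁, g1, g2, g3]
    · rw [← he₂, g2, g3, g1]
    · rw [g3, g1, g2]
  have gi1 : ap g⁻¹ e₁ = p := by conv_lhs => rw [← g3, ap_inv_ap]
  have gi2 : ap g⁻¹ e₂ = e₁ := by conv_lhs => rw [← g1, ap_inv_ap]
  have gi3 : ap g⁻¹ p = e₂ := by conv_lhs => rw [← g2, ap_inv_ap]
  have hAg : (A * g⁻¹) ^ 3 = 1 := by
    refine hfr.ap_ext_e S.hF e ?_ ?_ ?_ <;>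
      rw [ap_one, pow_succ, pow_two, ap_mul, ap_mul, ap_mul, ap_mul, ap_mul]
    · rw [← he₁, gi1, hAp, gi3, hA2, ap_smul, gi2, ap_smul, hA1, smul_smul, mul_inv_cancel₀ hz0, one_smul]
    · rw [← he₂, gi2, hA1, ap_smul, gi1, ap_smul, hAp, ap_smul, gi3, ap_smul, hA2, smul_smul,
        inv_mul_cancel₀ hz0, one_smul]
    · simp only [ap_smul, gi1, gi2, gi3, hAp, hA1, hA2, smul_smul, mul_inv_cancel₀ hz0, one_smul]
  obtain ⟨B, hB, hB1, hB2⟩ := S.triple hA hg3 hAg
  have hBp := hfix B hB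
  have hBe : ap B e₁ = e₁ := by
    have := hfix _ hB1
    rw [ap_mul, ap_mul, g3] at this
    conv_rhs => rw [← g3, ← this, ap_ap_inv]
  have hB3 : ap B e₂ = e₂ := by
    obtain ⟨y, h10, hd1⟩ := S.eigen_second hfr he (g := B) (a := 1) (n := 1) (by rw [one_smul]; exact hBe)
      (by rw [one_smul]; exact hBp) one_ne_zero one_ne_zero
    rw [one_mul, mul_one] at hd1
    rw [he₂, h10, hd1, one_smul]
  have hB1' : B = 1 := hfr.ap_ext_e S.hF e (by rw [ap_one]; exact hBe) (by rw [ap_one]; exact hB3)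
    (by rw [ap_one]; exact hBp)
  rw [hB1', inv_one, one_mul] at hB2
  have := hfix _ hB2
  rw [ap_mul, ap_mul, ap_mul, g3, g1, hA2, ap_smul, _root_.mul_inv_rev, ap_mul, gi2, gi1] at this
  have h20 := congrArg (fun w => 𝕙 w p) this
  simp only [hermForm_smul_left, hfr.pp, mul_one] at h20
  exact hz3 (by rw [h20, one_pow])

end CfsgLib.BinaryUnitary
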