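import Cfsg.Agent.Lib.BinaryUnitary.Trans
import Cfsg.Agent.Lib.BinaryInvol.Fix

/-!
Binary coset actions of `SU₃(q)`, `q` even: the fixed points of the transvections with one centre,
and the basic criterion for a transvection to lie in the point stabiliser.
-/

set_option autoImplicit false
set_option linter.unusedSectionVars false
set_option linter.style.haveILetI false

namespace CfsgLib.BinaryUnitary

open Matrix CfsgLib.ClassicalGroups CfsgLib.BinaryAct CfsgLib.BinaryInvol MulAction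
open scoped Pointwise

variable {F : Type*} [Field F] [Fintype F] [CharP F 2] {q : ℕ}

local notation "𝕙" => Cfsg.hermForm 3 F q
local notation "𝕊" => Cfsg.SU 3 F q

/-- The standing hypotheses: a binary action on the cosets of a proper subgroup of even order
containing the centre. -/
structure Setup (H : Subgroup (Cfsg.SU 3 F q)) : Prop where
  hF : Fintype.card F = q ^ 2
  four : 4 ≤ q
  binary : IsBinary H
  one : ∀ s t : Cfsg.SU 3 F q, orderOf s = 2 → orderOf t = 2 → IsConj s t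
  center_le : Subgroup.center (Cfsg.SU 3 F q) ≤ H
  proper : H ≠ ⊤
  even : Even (Nat.card H)

/-- The centre `c` occurs in `H`. -/
def InC (H : Subgroup (Cfsg.SU 3 F q)) (c : Fin 3 → F) : Prop := ∃ A ∈ H, IsT A c

/-- The common fixed points of the transvections with centre `c`. -/
def Fc (H : Subgroup (Cfsg.SU 3 F q)) (c : Fin 3 → F) : Set (Cfsg.SU 3 F q ⧸ H) :=
  {x | ∀ A : Cfsg.SU 3 F q, IsT A c → A • x = x}

/-- A central element is scalar. -/
theorem exists_scalar (hF : Fintype.card F = q ^ 2) {z : 𝕊} (hz : z ∈ Subgroup.center 𝕊) :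
    ∃ k : F, k ≠ 0 ∧ ∀ x, ap z x = k • x := by
  have h := center_SU_scalar hF (n := 3) ⟨z, hz⟩
  have hx : ∀ x, ap z x = z.1.1 0 0 • x := by
    intro x
    have e : z.1.1 = z.1.1 0 0 • (1 : Matrix (Fin 3) (Fin 3) F) := by
      ext i j
      rcases eq_or_ne i j with rfl | hij
      · rw [Matrix.smul_apply, Matrix.one_apply_eq, smul_eq_mul, mul_one]
        exact ((h i 0).2)
      · rw [Matrix.smul_apply, Matrix.one_apply_ne hij, smul_zero]
        exact (h i j).1 hij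
    conv_lhs => rw [ap, e, Matrix.smul_mulVec, Matrix.one_mulVec]
  refine ⟨_, fun e => ?_, hx⟩
  have := ap_ne_zero z (x := Pi.single 0 1) (by simp)
  rw [hx, e, zero_smul] at this
  exact this rfl

theorem IsT.not_central {A : 𝕊} {c : Fin 3 → F} (hF : Fintype.card F = q ^ 2) (hA : IsT A c) :
    A ∉ Subgroup.center 𝕊 := by
  intro h
  obtain ⟨k, hk, hx⟩ := exists_scalar hF h
  obtain ⟨hc, s, hs, hsq, hA'⟩ := hA
  have h1 : k • c = (1 : F) • c := by rw [← hx, hA'.self hc.2, one_smul]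
  have hk1 : k = 1 := smul_left_injective F hc.1 h1
  have hA1 : A = 1 := ap_ext fun x => by rw [hx, hk1, one_smul, ap_one]
  have := IsT.orderOf hF (A := A) ⟨hc, s, hs, hsq, hA'⟩
  rw [hA1, orderOf_one] at this
  exact absurd this (by decide)

variable {H : Subgroup (Cfsg.SU 3 F q)} (S : Setup H)
include S

theorem Setup.fx_eq {A : 𝕊} {c : Fin 3 → F} (hA : IsT A c) : Fx H A = Fc H c := by
  refine Set.ext fun x => ⟨fun hx B hB => ?_, fun hx => hx A hA⟩
  rcases eq_or_ne B A with e | e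
  · rw [e]; exact hx
  · have h := fx_eq_of_commute S.binary S.one (IsT.orderOf S.hF hB) (IsT.orderOf S.hF hA)
      (hB.comm hA) e
    show x ∈ Fx H B
    rw [h]
    exact hx

theorem Setup.inC_iff {c : Fin 3 → F} (hc : Iso q c) :
    InC H c ↔ ((1 : 𝕊) : 𝕊 ⧸ H) ∈ Fc H c := by
  constructor
  · rintro ⟨A, hA, hAc⟩
    rw [← S.fx_eq hAc]
    show A • ((1 : 𝕊) : 𝕊 ⧸ H) = _
    rw [smul_eq_iff]
    simpa using hA
  · intro h
    obtain ⟨A, hA⟩ := exists_isT S.hF hc
    refine ⟨A, ?_, hA⟩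
    simpa using (smul_eq_iff A 1 1).1 (h A hA)

theorem Setup.mem_of_inC {c : Fin 3 → F} (h : InC H c) {A : 𝕊} (hA : IsT A c) : A ∈ H := by
  have h1 := (S.inC_iff hA.1).1 h A hA
  simpa using (smul_eq_iff A 1 1).1 h1

theorem Setup.mem_tv {c : Fin 3 → F} (h : InC H c) {A : 𝕊} {s : F} (hs : s ^ q = s)
    (hA : TV A c s) : A ∈ H := by
  rcases eq_or_ne s 0 with e | e
  · rw [e] at hA
    rw [hA.zero]
    exact H.one_mem
  · obtain ⟨B, -, hB⟩ := id h
    exact S.mem_of_inC h ⟨hB.1, s, e, hs, hA⟩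

theorem Setup.inC_smul {c : Fin 3 → F} (h : InC H c) {k : F} (hk : k ≠ 0) : InC H (k • c) :=
  let ⟨A, hA, hAc⟩ := h
  ⟨A, hA, hAc.smul S.hF hk⟩

theorem Setup.inC_map {c : Fin 3 → F} (h : InC H c) {g : 𝕊} (hg : g ∈ H) : InC H (ap g c) :=
  let ⟨A, hA, hAc⟩ := h
  ⟨g * A * g⁻¹, H.mul_mem (H.mul_mem hg hA) (H.inv_mem hg), hAc.map g⟩

theorem Setup.fc_map {c : Fin 3 → F} (hc : Iso q c) (g : 𝕊) : g • Fc H c = Fc H (ap g c) := by
  obtain ⟨A, hA⟩ := exists_isT S.hF hc
  rw [← S.fx_eq hA, ← fx_conj, S.fx_eq (hA.map g)]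

theorem Setup.fc_smul {c : Fin 3 → F} (hc : Iso q c) {k : F} (hk : k ≠ 0) :
    Fc H (k • c) = Fc H c := by
  obtain ⟨A, hA⟩ := exists_isT S.hF hc
  rw [← S.fx_eq hA, S.fx_eq (hA.smul S.hF hk)]

theorem Setup.exists_inC : ∃ c, InC H c := by
  obtain ⟨A, hA, hA2⟩ := Involutions.exists_involution_of_even_card H S.even
  obtain ⟨c, hc⟩ := exists_isT_of_involution S.hF hA2
  exact ⟨c, A, hA, hc⟩

theorem Setup.not_all (hall : ∀ c, Iso q c → InC H c) : False := by
  obtain ⟨c, A, hAH, hA⟩ := S.exists_inC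
  have hle : Subgroup.normalClosure ({A} : Set 𝕊) ≤ H := by
    refine (Subgroup.closure_le _).2 ?_
    intro y hy
    obtain ⟨a, ha, hay⟩ := Group.mem_conjugatesOfSet_iff.1 hy
    obtain rfl := Set.mem_singleton_iff.1 ha
    obtain ⟨g, rfl⟩ := isConj_iff.1 hay
    exact S.mem_of_inC (hall _ (hA.map g).1) (hA.map g)
  rcases normal_le_center_or_top S.hF le_rfl (fun h => by have := S.four; omega) _
      Subgroup.normalClosure_normal with h | h
  · exact hA.not_central S.hF (h (Subgroup.subset_normalClosure (Set.mem_singleton A)))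
  · exact S.proper (eq_top_iff.2 (h ▸ hle))

theorem Setup.fc_inj {c d : Fin 3 → F} (hc : Iso q c) (hd : Iso q d) (hcd : 𝕙 c d ≠ 0) :
    Fc H c ≠ Fc H d := by
  intro heq
  have hall : ∀ e, Iso q e → Fc H e = Fc H c := by
    intro e he
    by_cases hce : 𝕙 e c = 0
    · obtain ⟨k, rfl⟩ := dep_of_orth S.hF hc he.2 hce
      exact S.fc_smul hc fun e => he.1 (by rw [e, zero_smul])
    · have hce' : 𝕙 c e ≠ 0 := by rw [hermForm_symm S.hF 3 e c]; exact pow_ne_zero _ hce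
      obtain ⟨g, a, b, ha, hb, h1, h2⟩ := exists_SU_map_nonorth S.hF hc.2 hd.2 hcd hc.2 he.2 hce'
      rw [← S.fc_smul he hb, ← show ap g d = b • e from h2, ← S.fc_map hd, ← heq, S.fc_map hc,
        show ap g c = a • c from h1, S.fc_smul hc ha]
  obtain ⟨A, hA⟩ := exists_isT S.hF hc
  obtain ⟨x, hx⟩ := fx_nonempty S.one S.even (IsT.orderOf S.hF hA)
  rw [S.fx_eq hA] at hx
  obtain ⟨g, rfl⟩ := QuotientGroup.mk_surjective x
  refine S.not_all fun e he => (S.inC_iff he).2 ?_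
  have h1 : (g : 𝕊 ⧸ H) ∈ g • Fc H e := by rw [S.fc_map he, hall _ (he.map g)]; exact hx
  obtain ⟨y, hy, hyg⟩ := Set.mem_smul_set.1 h1
  have : y = ((1 : 𝕊) : 𝕊 ⧸ H) := MulAction.injective g (hyg.trans (by
    show (g : 𝕊 ⧸ H) = ((g * 1 : 𝕊) : 𝕊 ⧸ H)
    rw [mul_one]))
  rwa [this] at hy

/-- An element fixing two non-orthogonal isotropic points has odd order. -/
theorem Setup.pow_eq_one_of_fix_two {k : 𝕊} {c d : Fin 3 → F} (hc : Iso q c) (hd : Iso q d)
    (hcd : 𝕙 c d ≠ 0) {m m' : F} (hm : ap k c = m • c) (hm' : ap k d = m' • d) :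
    k ^ (q ^ 2 - 1) = 1 := by
  obtain ⟨p, r, hr, hfr⟩ := exists_frame_pair S.hF hc hd hcd
  have hm0 : m ≠ 0 := fun e => ap_ne_zero k hc.1 (by rw [hm, e, zero_smul])
  have hm0' : m' ≠ 0 := fun e => ap_ne_zero k hd.1 (by rw [hm', e, zero_smul])
  have hd' : ap k (r • d) = m' • (r • d) := by rw [ap_smul, hm', smul_comm]
  have hp : ap k p = 𝕙 (ap k p) p • p := by
    have h1 : 𝕙 (ap k p) c = 0 := by
      have := ap_h k p c
      rw [hm, hermForm_smul_right, hfr.pc] at this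
      exact (mul_eq_zero.1 this).resolve_left (pow_ne_zero _ hm0)
    have h2 : 𝕙 (ap k p) (r • d) = 0 := by
      have := ap_h k p (r • d)
      rw [hd', hermForm_smul_right (n := 3) m', hfr.pd] at this
      exact (mul_eq_zero.1 this).resolve_left (pow_ne_zero _ hm0')
    conv_lhs => rw [hfr.decomp S.hF (ap k p), h1, h2]
    simp
  set n := 𝕙 (ap k p) p
  have hn0 : n ≠ 0 := fun e => ap_ne_zero k (x := p)
    (fun e' => one_ne_zero (α := F) (by rw [← hfr.pp, e', hermForm_zero_left]))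
    (by rw [hp, e, zero_smul])
  have hpow : ∀ x : F, x ≠ 0 → x ^ (q ^ 2 - 1) = 1 := fun x hx => by
    rw [← S.hF]; exact FiniteField.pow_card_sub_one_eq_one x hx
  refine hfr.ap_ext S.hF ?_ ?_ ?_ <;> rw [ap_one]
  · rw [ap_pow_smul k hm, hpow _ hm0, one_smul]
  · rw [ap_pow_smul k hp, hpow _ hn0, one_smul]
  · rw [ap_pow_smul k hd', hpow _ hm0', one_smul]

/-- If a product of two transvections with different centres is in `H`, so are both centres. -/
theorem Setup.inC_of_prod {y l : 𝕊} {c d : Fin 3 → F} (hy : IsT y c) (hl : IsT l d)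
    (hcd : 𝕙 c d ≠ 0) (ha : y * l ∈ H) : InC H c := by
  have hyy : y * y = 1 := by rw [← pow_two, ← IsT.orderOf S.hF hy, pow_orderOf_eq_one]
  have hll : l * l = 1 := by rw [← pow_two, ← IsT.orderOf S.hF hl, pow_orderOf_eq_one]
  let U : Set (𝕊 ⧸ H) := Fc H c ∪ Fc H d ∪ y • Fc H d
  have hfy : ∀ w ∈ Fc H c, y • w = w := fun w hw => hw y hy
  have hfl : ∀ w ∈ Fc H d, l • w = w := fun w hw => hw l hl
  have hstab : ∀ w ∈ U, y • w ∈ U := by
    rintro w ((hw | hw) | hw)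
    · left; left; rwa [hfy w hw]
    · right; exact Set.smul_mem_smul_set hw
    · left; right
      obtain ⟨v, hv, rfl⟩ := Set.mem_smul_set.1 hw
      rwa [smul_smul, hyy, one_smul]
  have hbase : ∀ g ∈ H, g • ((1 : 𝕊) : 𝕊 ⧸ H) = ((1 : 𝕊) : 𝕊 ⧸ H) := fun g hg =>
    (smul_eq_iff _ _ _).2 (by simpa using hg)
  obtain ⟨w₀, hw₀⟩ : (Fc H c).Nonempty := by
    rw [← S.fx_eq hy]; exact fx_nonempty S.one S.even (IsT.orderOf S.hF hy)
  have hcard : 2 ≤ Nat.card (Option ↥U) := by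
    haveI : Nonempty ↥U := ⟨⟨w₀, Or.inl (Or.inl hw₀)⟩⟩
    rw [Finite.card_option]
    have := Nat.card_pos (α := ↥U)
    omega
  have hpair : ∀ w : ↥U, ∃ g ∈ H, g • (w : 𝕊 ⧸ H) = y • (w : 𝕊 ⧸ H) := by
    rintro ⟨w, (hw | hw) | hw⟩
    · exact ⟨1, H.one_mem, by rw [one_smul, hfy w hw]⟩
    · exact ⟨y * l, ha, by rw [mul_smul, hfl w hw]⟩
    · refine ⟨(y * l)⁻¹, H.inv_mem ha, ?_⟩
      obtain ⟨v, hv, rfl⟩ := Set.mem_smul_set.1 hw
      rw [_root_.mul_inv_rev, inv_eq_of_mul_eq_one_right hyy, inv_eq_of_mul_eq_one_right hll, mul_smul,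
        smul_smul y y, hyy, one_smul, hfl v hv]
  obtain ⟨g, hg⟩ := S.binary.of_index (ι := Option ↥U) hcard
    (fun o => o.elim ((1 : 𝕊) : 𝕊 ⧸ H) (fun w => (w : 𝕊 ⧸ H)))
    (fun o => o.elim ((1 : 𝕊) : 𝕊 ⧸ H) (fun w => y • (w : 𝕊 ⧸ H))) (by
      rintro (_ | w) (_ | v) hne
      · exact absurd rfl hne
      · obtain ⟨g, hg, e⟩ := hpair v; exact ⟨g, hbase g hg, e⟩
      · obtain ⟨g, hg, e⟩ := hpair w; exact ⟨g, e, hbase g hg⟩
      · exact ⟨y, rfl, rfl⟩)
  have hgH : g ∈ H := by simpa using (smul_eq_iff g 1 1).1 (hg none)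
  set k := g⁻¹ * y with hkdef
  have hk : ∀ w ∈ U, k • w = w := fun w hw => by
    rw [hkdef, mul_smul, inv_smul_eq_iff]; exact (hg (some ⟨w, hw⟩)).symm
  have hline : ∀ e, Iso q e → (∀ w ∈ Fc H e, k • w = w) → ∃ m : F, ap k e = m • e := by
    intro e he hfix
    refine dep_of_orth S.hF he (he.map k).2 ?_
    by_contra h
    refine S.fc_inj (he.map k) he h ?_
    rw [← S.fc_map he]
    ext w
    constructor
    · intro hw
      obtain ⟨v, hv, rfl⟩ := Set.mem_smul_set.1 hw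
      rwa [hfix v hv]
    · intro hw
      exact Set.mem_smul_set.2 ⟨w, hw, hfix w hw⟩
  obtain ⟨m, hm⟩ := hline c hy.1 fun w hw => hk w (Or.inl (Or.inl hw))
  obtain ⟨m', hm'⟩ := hline d hl.1 fun w hw => hk w (Or.inl (Or.inr hw))
  have hpow := S.pow_eq_one_of_fix_two hy.1 hl.1 hcd hm hm'
  -- the commutator of `k` and `y` fixes `U` and has centre `c`
  have hm0 : m ≠ 0 := fun e => ap_ne_zero k hy.1.1 (by rw [hm, e, zero_smul])
  have hcomm : Commute y k := by
    obtain ⟨hc, s, hs, hsq, hys⟩ := id hy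
    have hz : TV (k * y * k⁻¹) (m • c) s := by rw [← hm]; exact hys.conj k
    have hz' := hz.scale S.hF (inv_ne_zero hm0)
    rw [smul_smul, inv_mul_cancel₀ hm0, one_smul] at hz'
    have hu := hys.mul hz' hc.2
    set s' := s / m⁻¹ ^ (q + 1) with hs'
    by_contra hne
    have hs0 : s + s' ≠ 0 := fun e => hne (by
      have h1 : y * (k * y * k⁻¹) = 1 := TV.zero (c := c) (e ▸ hu)
      have h2 : k * y * k⁻¹ = y := by
        calc k * y * k⁻¹ = y * (y * (k * y * k⁻¹)) := by rw [← mul_assoc y, hyy, one_mul]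
          _ = y := by rw [h1, mul_one]
      show y * k = k * y
      conv_lhs => rw [← h2]
      group)
    have hfix : ∀ w ∈ U, (y * (k * y * k⁻¹)) • w = w := fun w hw => by
      have h1 : k⁻¹ • w = w := by rw [inv_smul_eq_iff, hk w hw]
      rw [mul_smul, mul_smul, mul_smul, h1, hk _ (hstab w hw), smul_smul, hyy, one_smul]
    have hT : IsT (y * (k * y * k⁻¹)) c := ⟨hc, s + s', hs0, by
      rw [conj_add S.hF, hsq, hs', div_pow, hsq, pow_succ, mul_pow, conj_conj' S.hF, mul_comm],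
      hu⟩
    have hsub : Fc H d ⊆ Fx H (y * (k * y * k⁻¹)) := fun w hw => hfix w (Or.inl (Or.inr hw))
    have heq := Set.eq_of_subset_of_ncard_le hsub (le_of_eq (by
      rw [ncard_fx_eq S.one (IsT.orderOf S.hF hT) (IsT.orderOf S.hF hl), S.fx_eq hl]))
      (Set.toFinite _)
    exact S.fc_inj hy.1 hl.1 hcd (heq.trans (S.fx_eq hT)).symm
  -- so an odd power of `g` is `y`
  have hodd : Odd (q ^ 2 - 1) := by
    obtain ⟨p, n, hp, hcp, hn⟩ := herm_exists_prime_pow S.hF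
    have hp2 : p = 2 := CharP.eq F hcp ‹CharP F 2›
    have h4 := S.four
    have : 2 ∣ q := by
      subst hp2
      rw [hn]
      exact dvd_pow_self 2 fun e => by rw [e, pow_zero] at hn; omega
    have h2 : Even (q ^ 2) := (even_iff_two_dvd.2 this).pow_of_ne_zero two_ne_zero
    have h1 : 1 ≤ q ^ 2 := Nat.one_le_pow _ _ (by omega)
    exact Nat.Even.sub_odd h1 h2 odd_one
  refine ⟨y, ?_, hy⟩
  have hg' : g = y * k⁻¹ := by rw [hkdef]; group
  have hgpow : g ^ (q ^ 2 - 1) = y := by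
    rw [hg', (Commute.inv_right hcomm).mul_pow, inv_pow, hpow, inv_one, mul_one]
    obtain ⟨j, hj⟩ := hodd
    rw [hj, pow_succ, pow_mul, pow_two, hyy, one_pow, one_mul]
  rw [← hgpow]
  exact H.pow_mem hgH _

end CfsgLib.BinaryUnitary
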