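import Cfsg.Agent.Lib.BinaryUnitary.CaseOne
import Cfsg.Agent.Lib.BinaryAct.ElemTI
import Cfsg.Agent.Lib.InvChar.SylowThree

/-!
Binary actions of `PSU₃(q)`, `q` even, with point stabilisers of even order: the stabilisers are the
centres of the Sylow 2-subgroups.
-/

set_option autoImplicit false
set_option linter.unusedSectionVars false
set_option linter.style.haveILetI false

namespace CfsgLib.BinaryUnitary

open Matrix CfsgLib.ClassicalGroups CfsgLib.BinaryAct
open scoped Pointwise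

variable {F : Type*} [Field F] [Fintype F] [CharP F 2] {q : ℕ}

local notation "𝕙" => Cfsg.hermForm 3 F q
local notation "𝕊" => Cfsg.SU 3 F q
local notation "𝔾" => Cfsg.PSU 3 F q

/-- The projection. -/
def pr : Cfsg.SU 3 F q →* Cfsg.PSU 3 F q := QuotientGroup.mk' _

theorem pr_surjective : Function.Surjective (pr : 𝕊 →* 𝔾) := QuotientGroup.mk'_surjective _

theorem pr_eq_one {A : 𝕊} : pr A = 1 ↔ A ∈ Subgroup.center 𝕊 := QuotientGroup.eq_one_iff A

theorem pr_eq_iff {A B : 𝕊} : pr A = pr B ↔ A⁻¹ * B ∈ Subgroup.center 𝕊 := QuotientGroup.eq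

variable (hF : Fintype.card F = q ^ 2)
include hF

theorem center_odd : Odd (Nat.card (Subgroup.center 𝕊)) :=
  InvCharThree.su_center_odd hF (even_q hF)

theorem central_pow_card {z : 𝕊} (hz : z ∈ Subgroup.center 𝕊) :
    z ^ Nat.card (Subgroup.center 𝕊) = 1 :=
  congrArg Subtype.val (pow_card_eq_one' (x := (⟨z, hz⟩ : Subgroup.center 𝕊)))

/-- Elements with trivial squares and equal images are equal. -/
theorem eq_of_pr_eq {A B : 𝕊} (hA : A * A = 1) (hB : B * B = 1) (h : pr A = pr B) : A = B := by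
  obtain ⟨z, hz⟩ : ∃ z, z = A⁻¹ * B := ⟨_, rfl⟩
  have hzc : z ∈ Subgroup.center 𝕊 := hz ▸ pr_eq_iff.1 h
  have hB' : B = A * z := by rw [hz]; group
  have hz2 : z * z = 1 := by
    rw [hB'] at hB
    calc z * z = A * A * (z * z) := by rw [hA, one_mul]
      _ = A * z * (A * z) := by
        rw [mul_assoc A z, ← mul_assoc z A, ← Subgroup.mem_center_iff.1 hzc A]; group
      _ = 1 := hB
  obtain ⟨j, hj⟩ := center_odd hF
  have := central_pow_card hF hzc
  rw [hj, pow_succ, pow_mul, pow_two, hz2, one_pow, one_mul] at this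
  rw [hB', this, mul_one]

/-- Elements of two-power order lift to elements of two-power order. -/
theorem exists_lift_two_power (x : 𝔾) (k : ℕ) (hx : x ^ 2 ^ k = 1) :
    ∃ A : 𝕊, pr A = x ∧ A ^ 2 ^ k = 1 := by
  obtain ⟨A₀, rfl⟩ := pr_surjective x
  have hz : A₀ ^ 2 ^ k ∈ Subgroup.center 𝕊 := by rw [← pr_eq_one, map_pow, hx]
  set n := Nat.card (Subgroup.center 𝕊) with hn
  have hcop : Nat.Coprime n (2 ^ k) :=
    Nat.Coprime.pow_right _ ((Nat.coprime_two_right).2 (center_odd hF))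
  obtain ⟨j, -, hj⟩ := Nat.exists_mul_mod_eq_of_coprime 1 hcop (Nat.two_pow_pos k).ne'
  refine ⟨A₀ ^ (n * j), ?_, ?_⟩
  · rw [map_pow, ← Nat.div_add_mod (n * j) (2 ^ k), pow_add, pow_mul, hx, one_pow, one_mul, hj]
    rcases Nat.eq_zero_or_pos k with h | h
    · subst h
      rw [pow_zero, pow_one] at hx
      rw [hx, one_pow]
    · rw [Nat.mod_eq_of_lt (Nat.one_lt_two_pow (by omega)), pow_one]
  · rw [← pow_mul, mul_comm (n * j), pow_mul, pow_mul, central_pow_card hF hz, one_pow]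

/-- Involutions are images of transvections. -/
theorem exists_isT_lift {x : 𝔾} (hx : orderOf x = 2) : ∃ (A : 𝕊) (c : Fin 3 → F), IsT A c ∧ pr A = x := by
  obtain ⟨A, hA, hA2⟩ := exists_lift_two_power hF x 1 (by rw [pow_one, ← hx, pow_orderOf_eq_one])
  have : orderOf A = 2 := orderOf_eq_prime (by simpa using hA2) fun e => by
    rw [e, map_one] at hA
    rw [← hA, orderOf_one] at hx
    exact absurd hx (by decide)
  obtain ⟨c, hc⟩ := exists_isT_of_involution hF this
  exact ⟨A, c, hc, hA⟩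

theorem IsT.pr_ne_one {A : 𝕊} {c : Fin 3 → F} (hA : IsT A c) : pr A ≠ 1 := fun h =>
  hA.not_central hF (pr_eq_one.1 h)

omit hF in
/-- The images of the transvections with one centre. -/
def zc (hF : Fintype.card F = q ^ 2) (c : Fin 3 → F) (hc : Cfsg.hermForm 3 F q c c = 0) :
    Subgroup (Cfsg.PSU 3 F q) where
  carrier := {x | ∃ A s, s ^ q = s ∧ TV A c s ∧ pr A = x}
  one_mem' := ⟨1, 0, conj_zero hF, fun x => by rw [ap_one, zero_mul, zero_smul, add_zero], map_one _⟩
  mul_mem' := by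
    rintro x y ⟨A, s, hs, hA, rfl⟩ ⟨B, t, ht, hB, rfl⟩
    exact ⟨A * B, s + t, by rw [conj_add hF, hs, ht], hA.mul hB hc, map_mul _ _ _⟩
  inv_mem' := by
    rintro x ⟨A, s, hs, hA, rfl⟩
    exact ⟨A, s, hs, hA, by rw [← map_inv, inv_eq_of_mul_eq_one_right (hA.sq hc)]⟩

theorem mem_zc {c : Fin 3 → F} (hc : Iso q c) {A : 𝕊} (hA : IsT A c) : pr A ∈ zc hF c hc.2 := by
  obtain ⟨-, s, -, hs, h⟩ := hA
  exact ⟨A, s, hs, h, rfl⟩

theorem zc_sq {c : Fin 3 → F} (hc : Iso q c) {x : 𝔾} (hx : x ∈ zc hF c hc.2) : x * x = 1 := by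
  obtain ⟨A, s, -, hA, rfl⟩ := hx
  rw [← map_mul, hA.sq hc.2, map_one]

theorem eq_one_or_isT {c : Fin 3 → F} (hc : Iso q c) {x : 𝔾} (hx : x ∈ zc hF c hc.2) :
    x = 1 ∨ ∃ A, IsT A c ∧ pr A = x := by
  obtain ⟨A, s, hs, hA, rfl⟩ := hx
  rcases eq_or_ne s 0 with e | e
  · rw [e] at hA
    exact Or.inl (by rw [hA.zero, map_one])
  · exact Or.inr ⟨A, ⟨hc, s, e, hs, hA⟩, rfl⟩

theorem zc_eq_of_dep {c e : Fin 3 → F} (hc : Iso q c) (he : Iso q e) {k : F} (hk : e = k • c) :
    zc hF e he.2 = zc hF c hc.2 := by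
  have hk0 : k ≠ 0 := fun e0 => he.1 (by rw [hk, e0, zero_smul])
  have key : ∀ {c e : Fin 3 → F} (hc : Iso q c) (he : Iso q e) {k : F}, k ≠ 0 → e = k • c →
      zc hF c hc.2 ≤ zc hF e he.2 := by
    intro c e hc he k hk0 hk x hx
    rcases eq_one_or_isT hF hc hx with rfl | ⟨A, hA, rfl⟩
    · exact (zc hF e he.2).one_mem
    · exact mem_zc hF he (hk ▸ hA.smul hF hk0)
  exact le_antisymm (key he hc (inv_ne_zero hk0) (by rw [hk, smul_smul, inv_mul_cancel₀ hk0, one_smul]))
    (key hc he hk0 hk)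

theorem zc_eq_of_h {c e : Fin 3 → F} (hc : Iso q c) (he : Iso q e) (h : 𝕙 e c = 0) :
    zc hF e he.2 = zc hF c hc.2 := by
  obtain ⟨k, hk⟩ := dep_of_orth hF hc he.2 h
  exact zc_eq_of_dep hF hc he hk

theorem conj_mem_zc {c : Fin 3 → F} (hc : Iso q c) (g : 𝕊) {x : 𝔾} (hx : x ∈ zc hF c hc.2) :
    pr g * x * (pr g)⁻¹ ∈ zc hF (ap g c) (hc.map g).2 := by
  obtain ⟨A, s, hs, hA, rfl⟩ := hx
  exact ⟨g * A * g⁻¹, s, hs, hA.conj g, by rw [map_mul, map_mul, map_inv]⟩

theorem isT_unique_centre {c e : Fin 3 → F} {A B : 𝕊} (hA : IsT A c) (hB : IsT B e) (h : pr A = pr B) :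
    𝕙 e c = 0 := by
  have e1 : A = B := eq_of_pr_eq hF
    (by rw [← pow_two, ← IsT.orderOf hF hA, pow_orderOf_eq_one])
    (by rw [← pow_two, ← IsT.orderOf hF hB, pow_orderOf_eq_one]) h
  subst e1
  exact hA.h_eq_zero_of_isT hF hB

theorem zc_ti {c : Fin 3 → F} (hc : Iso q c) (x : 𝔾) :
    (∀ z, z ∈ zc hF c hc.2 ↔ x⁻¹ * z * x ∈ zc hF c hc.2) ∨
      ∀ z ∈ zc hF c hc.2, x⁻¹ * z * x ∈ zc hF c hc.2 → z = 1 := by
  obtain ⟨g, rfl⟩ := pr_surjective x
  by_cases h : 𝕙 (ap g c) c = 0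
  · left
    have e := zc_eq_of_h hF hc (hc.map g) h
    intro z
    constructor
    · intro hz
      rw [← e] at hz
      have h1 := conj_mem_zc hF (hc.map g) g⁻¹ hz
      rw [map_inv, inv_inv] at h1
      simpa [ap_inv_ap] using h1
    · intro hz
      have h1 := conj_mem_zc hF hc g hz
      rw [e] at h1
      simpa [mul_assoc] using h1
  · right
    intro z hz hz'
    by_contra hz1
    obtain ⟨A, hA, hA'⟩ := (eq_one_or_isT hF hc hz).resolve_left hz1
    obtain ⟨B, hB, hB'⟩ := (eq_one_or_isT hF hc hz').resolve_left fun e => hz1 (by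
      have := congrArg (fun t => pr g * t * (pr g)⁻¹) e
      simpa [mul_assoc] using this)
    exact h (isT_unique_centre hF hA (hB.map g) (by
      rw [map_mul, map_mul, map_inv, hA', hB']; group))

theorem zc_involution {c : Fin 3 → F} (hc : Iso q c) (v : 𝔾) (hv : v * v = 1)
    (hn : ∀ z, z ∈ zc hF c hc.2 ↔ v⁻¹ * z * v ∈ zc hF c hc.2) : v ∈ zc hF c hc.2 := by
  rcases eq_or_ne v 1 with rfl | hv1
  · exact (zc hF c hc.2).one_mem
  obtain ⟨t, e, ht, rfl⟩ := exists_isT_lift hF (orderOf_eq_prime (by rwa [pow_two]) hv1)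
  obtain ⟨T, hT⟩ := exists_isT hF hc
  have h1 := (hn _).1 (mem_zc hF hc hT)
  rw [← map_inv, ← map_mul, ← map_mul] at h1
  have hT' := hT.map t⁻¹
  rw [inv_inv] at hT'
  obtain ⟨B, hB, hB'⟩ := (eq_one_or_isT hF hc h1).resolve_left (IsT.pr_ne_one hF hT')
  have h2 := isT_unique_centre hF hT' hB hB'.symm
  obtain ⟨k, hk⟩ := dep_of_orth hF (hc.map t⁻¹) hc.2 h2
  have h3 : ap t c = k • c := by
    conv_lhs => rw [hk, ap_smul, ap_ap_inv]
  have h4 := ht.h_eq_zero_of_fix hF hc.2 h3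
  rw [← zc_eq_of_h hF hc ht.1 (by rw [hermForm_symm hF 3 c e, h4, conj_zero hF])]
  exact mem_zc hF ht.1 ht

/-- The images of transvections with one centre give a binary action. -/
theorem isBinary_zc {c : Fin 3 → F} (hc : Iso q c) : IsBinary (zc hF c hc.2) :=
  isBinary_of_elementary_ti (fun _ hw => zc_sq hF hc hw) (zc_ti hF hc) (zc_involution hF hc)

omit hF in
/-- The unipotent elements at `c`. -/
def qc (q : ℕ) (c : Fin 3 → F) : Subgroup (Cfsg.SU 3 F q) where
  carrier := {A | ap A c = c ∧ ∀ x, Cfsg.hermForm 3 F q x c = 0 → ∃ a : F, ap A x = x + a • c}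
  one_mem' := ⟨ap_one c, fun x _ => ⟨0, by rw [ap_one, zero_smul, add_zero]⟩⟩
  mul_mem' := by
    rintro A B ⟨hA, hA'⟩ ⟨hB, hB'⟩
    refine ⟨by rw [ap_mul, hB, hA], fun x hx => ?_⟩
    obtain ⟨b, hb⟩ := hB' x hx
    obtain ⟨a, ha⟩ := hA' x hx
    exact ⟨a + b, by rw [ap_mul, hb, ap_add, ap_smul, ha, hA]; module⟩
  inv_mem' := by
    rintro A ⟨hA, hA'⟩
    have h1 : ap A⁻¹ c = c := by conv_lhs => rw [← hA, ap_inv_ap]
    refine ⟨h1, fun x hx => ?_⟩
    obtain ⟨a, ha⟩ := hA' x hx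
    refine ⟨-a, ?_⟩
    have h2 := congrArg (ap A⁻¹) ha
    rw [ap_inv_ap, ap_add, ap_smul, h1] at h2
    conv_rhs => rw [h2]
    module

theorem qc_coeff {c p d : Fin 3 → F} (h : IsFr q c p d) {A : 𝕊} (hA : A ∈ qc q c) :
    ∃ a b : F, ap A p = a • c + p ∧ ap A d = b • c + a ^ q • p + d := by
  obtain ⟨hc, hx⟩ := hA
  obtain ⟨a, ha⟩ := hx p h.pc
  obtain ⟨a', n, b, g, m', hp, hd, hm', -, e1, -, e3⟩ :=
    h.upper hF (m := 1) (show ap A c = (1 : F) • c by rw [one_smul]; exact hc)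
  rw [one_pow, mul_one] at hm'
  rw [hm', one_mul, mul_one] at e3
  have haa : a' = a := by
    have := congrArg (fun v => 𝕙 v d) (hp.symm.trans ha)
    simp only [hermForm_add_left, hermForm_smul_left, h.cd, h.pd] at this
    linear_combination this
  rw [e3, haa, one_smul] at hp
  rw [hm', one_mul, e3, one_pow, mul_one, haa] at e1
  rw [CharTwo.add_eq_zero] at e1
  rw [hm', one_smul, ← e1] at hd
  exact ⟨a, b, hp, hd⟩

theorem qc_pow_four {c : Fin 3 → F} (hc : Iso q c) {A : 𝕊} (hA : A ∈ qc q c) : A ^ 4 = 1 := by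
  obtain ⟨p, d, h⟩ := exists_frame hF hc
  obtain ⟨a, b, hp, hd⟩ := qc_coeff hF h hA
  have hsum : ∀ x y : F, x + x = 0 ∧ y + y = 0 := fun x y =>
    ⟨CharTwo.add_self_eq_zero x, CharTwo.add_self_eq_zero y⟩
  refine h.ap_ext hF ?_ ?_ ?_ <;> rw [ap_one, pow_succ, pow_succ, pow_two, ap_mul, ap_mul, ap_mul] <;>
    simp only [hA.1, hp, hd, ap_add, ap_smul]
  · funext i
    simp only [Pi.add_apply, Pi.smul_apply, smul_eq_mul]
    linear_combination 2 * a * c i * CharTwo.two_eq_zero (R := F)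
  · funext i
    simp only [Pi.add_apply, Pi.smul_apply, smul_eq_mul]
    linear_combination (2 * b * c i + 3 * (a ^ q * a) * c i + 2 * a ^ q * p i) * CharTwo.two_eq_zero (R := F)

/-- The image of the unipotent elements. -/
theorem isPGroup_qc {c : Fin 3 → F} (hc : Iso q c) : IsPGroup 2 ((qc q c).map (pr : 𝕊 →* 𝔾)) := by
  rintro ⟨x, A, hA, rfl⟩
  exact ⟨2, Subtype.ext (by
    show (pr A) ^ 2 ^ 2 = 1
    rw [← map_pow, show (2 : ℕ) ^ 2 = 4 by norm_num, qc_pow_four hF hc hA, map_one])⟩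

/-- The centre of a Sylow 2-subgroup. -/
theorem sylow_center (P : Sylow 2 𝔾) : ∃ (c : Fin 3 → F) (hc : Iso q c),
    (Subgroup.center ↥(P : Subgroup 𝔾)).map (P : Subgroup 𝔾).subtype = zc hF c hc.2 ∧
      (P : Subgroup 𝔾) = (qc q c).map pr := by
  haveI : Fact (Nat.Prime 2) := ⟨Nat.prime_two⟩
  have hP : (P : Subgroup 𝔾) ≠ ⊥ := by
    refine P.ne_bot_of_dvd_card ?_
    obtain ⟨x, hx0, hx⟩ := exists_isotropic_ne_zero (q := q) (n := 3) hF (by norm_num)
    obtain ⟨T, hT⟩ := exists_isT hF (c := x) ⟨hx0, hx⟩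
    have h2 : orderOf (pr T) = 2 := orderOf_eq_prime (by
      rw [← map_pow, ← IsT.orderOf hF hT, pow_orderOf_eq_one, map_one]) (IsT.pr_ne_one hF hT)
    rw [← h2]
    exact orderOf_dvd_natCard _
  haveI : Nontrivial ↥(P : Subgroup 𝔾) := (Subgroup.nontrivial_iff_ne_bot _).2 hP
  haveI := P.2.center_nontrivial
  obtain ⟨z, hz⟩ : ∃ z : Subgroup.center ↥(P : Subgroup 𝔾), orderOf z = 2 := by
    refine exists_prime_orderOf_dvd_card' 2 ?_
    obtain ⟨n, hn⟩ := (P.2.to_subgroup (Subgroup.center _)).exists_card_eq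
    rcases Nat.eq_zero_or_pos n with h | h
    · rw [h, pow_zero] at hn
      exact absurd hn (Finite.one_lt_card (α := Subgroup.center ↥(P : Subgroup 𝔾))).ne'
    · rw [hn]; exact dvd_pow_self 2 (by omega)
  have hz2 : orderOf ((z : ↥(P : Subgroup 𝔾)) : 𝔾) = 2 := by
    rw [Subgroup.orderOf_coe, Subgroup.orderOf_coe, hz]
  obtain ⟨T, c, hT, hTz⟩ := exists_isT_lift hF hz2
  have hc := hT.1
  have hle : (P : Subgroup 𝔾) ≤ (qc q c).map pr := by
    intro x hx
    obtain ⟨k, hk⟩ := P.2 ⟨x, hx⟩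
    obtain ⟨A, hA, hA2⟩ := exists_lift_two_power hF x k (congrArg Subtype.val hk)
    refine ⟨A, ?_, hA⟩
    have hcomm : x * pr T = pr T * x := by
      rw [hTz]
      exact congrArg Subtype.val (Subgroup.mem_center_iff.1 z.2 ⟨x, hx⟩)
    have hTT : T * T = 1 := by rw [← pow_two, ← IsT.orderOf hF hT, pow_orderOf_eq_one]
    have hconj : A * T * A⁻¹ = T := eq_of_pr_eq hF
      (by rw [show A * T * A⁻¹ * (A * T * A⁻¹) = A * (T * T) * A⁻¹ by group, hTT]; group) hTT
      (by rw [map_mul, map_mul, map_inv, hA, hcomm]; group)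
    have h1 : IsT T (ap A c) := hconj ▸ hT.map A
    obtain ⟨m, hm⟩ := dep_of_orth hF hc (hc.map A).2 (hT.h_eq_zero_of_isT hF h1)
    have hroot : ∀ (j : ℕ) (y : F), y ^ 2 ^ j = 1 → y = 1 := by
      intro j
      induction j with
      | zero => intro y hy; simpa using hy
      | succ j ih =>
        intro y hy
        rw [pow_succ, pow_mul] at hy
        exact ih y (CharTwo.sq_inj.1 (by rw [hy, one_pow]))
    have hm1 : m = 1 := by
      refine hroot k m (smul_left_injective F hc.1 ?_)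
      show m ^ 2 ^ k • c = (1 : F) • c
      rw [← ap_pow_smul A hm, hA2, ap_one, one_smul]
    rw [hm1, one_smul] at hm
    obtain ⟨p, d, h⟩ := exists_frame hF hc
    obtain ⟨a, n, b, g, m', hp, -, -, -, -, -, -⟩ :=
      h.upper hF (m := 1) (show ap A c = (1 : F) • c by rw [one_smul]; exact hm)
    have hpn : ∀ j : ℕ, ∃ y : F, ap (A ^ j) p = y • c + n ^ j • p := by
      intro j
      induction j with
      | zero => exact ⟨0, by rw [pow_zero, pow_zero, ap_one]; module⟩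
      | succ j ih =>
        obtain ⟨y, hy⟩ := ih
        refine ⟨y + n ^ j * a, ?_⟩
        rw [pow_succ', ap_mul, hy, ap_add, ap_smul, ap_smul, hm, hp]
        module
    obtain ⟨y, hy⟩ := hpn (2 ^ k)
    rw [hA2, ap_one] at hy
    have hn : n = 1 := hroot k n (by
      have := congrArg (fun v => 𝕙 v p) hy
      simp only [hermForm_add_left, hermForm_smul_left, h.cp hF, h.pp] at this
      linear_combination -this)
    refine ⟨hm, fun v hv => ?_⟩
    have hdec := h.decomp hF v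
    rw [hv, zero_smul, add_zero] at hdec
    refine ⟨𝕙 v p * a, ?_⟩
    conv_lhs => rw [hdec, ap_add, ap_smul, ap_smul, hm, hp, hn]
    conv_rhs => arg 1; rw [hdec]
    module
  have heq : (P : Subgroup 𝔾) = (qc q c).map pr := (P.is_maximal' (isPGroup_qc hF hc) hle).symm
  refine ⟨c, hc, ?_, heq⟩
  apply le_antisymm
  · rintro x ⟨⟨x', hx'⟩, hcen, rfl⟩
    have hxQ : x' ∈ (qc q c).map pr := heq ▸ hx'
    obtain ⟨A, hA, rfl⟩ := hxQ
    show pr A ∈ zc hF c hc.2
    obtain ⟨p, d, h⟩ := exists_frame hF hc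
    obtain ⟨a, b, hp, hd⟩ := qc_coeff hF h hA
    have hscalar : ∀ B ∈ qc q c, A * B = B * A := by
      intro B hB
      have hBP : pr B ∈ (P : Subgroup 𝔾) := heq ▸ ⟨B, hB, rfl⟩
      have h1 : pr B * pr A = pr A * pr B :=
        congrArg Subtype.val (Subgroup.mem_center_iff.1 hcen ⟨pr B, hBP⟩)
      rw [← map_mul, ← map_mul] at h1
      obtain ⟨j, hj, hjx⟩ := exists_scalar hF (pr_eq_iff.1 h1)
      have hmem : (B * A)⁻¹ * (A * B) ∈ qc q c :=
        (qc q c).mul_mem ((qc q c).inv_mem ((qc q c).mul_mem hB hA)) ((qc q c).mul_mem hA hB)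
      have hj1 : j = 1 := smul_left_injective F hc.1 (by
        show j • c = (1 : F) • c
        rw [← hjx, hmem.1, one_smul])
      have : (B * A)⁻¹ * (A * B) = 1 := ap_ext fun v => by rw [hjx, hj1, one_smul, ap_one]
      exact (inv_mul_eq_one.1 this).symm
    have ha : a = 0 := by
      by_contra ha0
      obtain ⟨w, hw⟩ : ∃ w : F, w ^ q ≠ w := by
        by_contra! h'
        exact hermConj_ne_id hF (RingHom.ext h')
      obtain ⟨b', hb'⟩ := exists_trace hF (fixed_norm hF (w * a))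
      have hgr : ∀ i j, 𝕙 (![c, p, d] i) (![c, p, d] j) = 𝕙 (![c, (w * a) • c + p,
          b' • c + (w * a) ^ q • p + d] i) (![c, (w * a) • c + p, b' • c + (w * a) ^ q • p + d] j) := by
        intro i j
        fin_cases i <;> fin_cases j <;>
          simp [hermForm_add_left, hermForm_add_right hF, hermForm_smul_left, hermForm_smul_right,
            h.cc, h.dd, h.cd, h.pp, h.pc, h.pd, h.dc hF, h.cp hF, h.dp hF, conj_conj' hF] <;>
          first
            | linear_combination -CharTwo.add_self_eq_zero ((w * a) ^ q)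
            | linear_combination -CharTwo.add_self_eq_zero (w * a)
            | linear_combination -CharTwo.add_self_eq_zero (w ^ q * a ^ q)
            | (rw [pow_succ] at hb'
               linear_combination -hb' - CharTwo.add_self_eq_zero ((w * a) ^ q * (w * a)))
      have hd3 : det3 c ((w * a) • c + p) (b' • c + (w * a) ^ q • p + d) = det3 c p d := by
        simp only [det3, Matrix.det_fin_three, Matrix.of_apply, Matrix.cons_val_zero,
          Matrix.cons_val_one, Matrix.cons_val_two, Matrix.tail_cons, Matrix.head_cons, Pi.smul_apply,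
          Pi.add_apply, smul_eq_mul]
        ring
      have hfr2 : IsFr q c ((w * a) • c + p) (b' • c + (w * a) ^ q • p + d) :=
        ⟨(hgr 0 0).symm.trans h.cc, (hgr 2 2).symm.trans h.dd, (hgr 0 2).symm.trans h.cd,
          (hgr 1 1).symm.trans h.pp, (hgr 1 0).symm.trans h.pc, (hgr 1 2).symm.trans h.pd⟩
      obtain ⟨B, hB⟩ := exists_map hF (x := ![c, p, d])
        (y := ![c, (w * a) • c + p, b' • c + (w * a) ^ q • p + d]) (h.li hF) (hfr2.li hF) hgr hd3.symm
      have hB0 : ap B c = c := hB 0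
      have hB1 : ap B p = (w * a) • c + p := hB 1
      have hB2 : ap B d = b' • c + (w * a) ^ q • p + d := hB 2
      have hBq : B ∈ qc q c := by
        refine ⟨hB0, fun v hv => ⟨𝕙 v p * (w * a), ?_⟩⟩
        have hdec := h.decomp hF v
        rw [hv, zero_smul, add_zero] at hdec
        conv_lhs => rw [hdec, ap_add, ap_smul, ap_smul, hB0, hB1]
        conv_rhs => arg 1; rw [hdec]
        module
      have h5 := congrArg (fun g => 𝕙 (ap g d) d) (hscalar B hBq)
      simp only [ap_mul, hB2, hd, ap_add, ap_smul, hA.1, hB0, hp, hB1, hermForm_add_left,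
        hermForm_smul_left, h.cd, h.pd, h.dd] at h5
      have h6 : (w ^ q - w) * (a ^ q * a) = 0 := by
        rw [mul_pow] at h5
        linear_combination h5
      rcases mul_eq_zero.1 h6 with h7 | h7
      · exact hw (sub_eq_zero.1 h7)
      · exact mul_ne_zero (pow_ne_zero _ ha0) ha0 h7
    rw [ha, conj_zero hF, zero_smul, add_zero] at hd
    rw [ha, zero_smul, zero_add] at hp
    refine ⟨A, b, ?_, fun v => ?_, rfl⟩
    · have h1 := ap_h A d d
      rw [hd, h.dd] at h1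
      simp [hermForm_add_left, hermForm_add_right hF, hermForm_smul_left, hermForm_smul_right, h.cc,
        h.dd, h.cd, h.dc hF] at h1
      exact (CharTwo.add_eq_zero.1 (by linear_combination h1)).symm
    · conv_lhs => rw [h.decomp hF v, ap_add, ap_add, ap_smul, ap_smul, ap_smul, hA.1, hp, hd]
      conv_rhs => arg 1; rw [h.decomp hF v]
      module
  · intro x hx
    obtain ⟨A, s, hs, hA, rfl⟩ := hx
    have hAq : A ∈ qc q c := ⟨hA.self hc.2, fun v hv => ⟨0, by rw [hA.orth hv, zero_smul, add_zero]⟩⟩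
    refine ⟨⟨pr A, heq ▸ ⟨A, hAq, rfl⟩⟩, Subgroup.mem_center_iff.2 fun y => Subtype.ext ?_, rfl⟩
    have hy : (y : 𝔾) ∈ (qc q c).map pr := heq ▸ y.2
    obtain ⟨B, hB, hBy⟩ := hy
    show (y : 𝔾) * pr A = pr A * y
    rw [← hBy, ← map_mul, ← map_mul]
    congr 1
    have h1 : TV (B * A * B⁻¹) c s := by
      have := hA.conj B
      rwa [hB.1] at this
    calc B * A = (B * A * B⁻¹) * B := by group
      _ = A * B := by rw [h1.unique hA]

/-- The images of transvections with one centre form the centre of a Sylow 2-subgroup. -/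
theorem exists_sylow_zc {c : Fin 3 → F} (hc : Iso q c) : ∃ P : Sylow 2 𝔾,
    zc hF c hc.2 = (Subgroup.center ↥(P : Subgroup 𝔾)).map (P : Subgroup 𝔾).subtype := by
  obtain ⟨P, hP⟩ := (isPGroup_qc hF hc).exists_le_sylow
  obtain ⟨e, he, hcen, heq⟩ := sylow_center hF P
  refine ⟨P, ?_⟩
  rw [hcen]
  obtain ⟨T, hT⟩ := exists_isT hF hc
  have hTq : T ∈ qc q c := by
    obtain ⟨-, s, -, -, hA⟩ := hT
    exact ⟨hA.self hc.2, fun v hv => ⟨0, by rw [hA.orth hv, zero_smul, add_zero]⟩⟩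
  have h1 : pr T ∈ (qc q e).map pr := heq ▸ hP ⟨T, hTq, rfl⟩
  obtain ⟨A, hA, hAT⟩ := h1
  obtain ⟨j, hj, hjx⟩ := exists_scalar hF (pr_eq_iff.1 hAT)
  have hTe : ap T e = j • e := by
    have h2 : T = A * (A⁻¹ * T) := by group
    rw [h2, ap_mul, hjx, ap_smul, hA.1]
  exact (zc_eq_of_h hF hc he (hT.h_eq_zero_of_fix hF he.2 hTe)).symm

/-- A binary point stabiliser of even order is the image of the transvections with one centre. -/
theorem eq_zc_of_binary (h4 : 4 ≤ q) {H : Subgroup 𝔾} (hb : IsBinary H)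
    (hone : ∀ s t : 𝔾, orderOf s = 2 → orderOf t = 2 → IsConj s t) (hH : H ≠ ⊤)
    (heven : Even (Nat.card H)) : ∃ (c : Fin 3 → F) (hc : Iso q c), H = zc hF c hc.2 := by
  obtain ⟨x, hxH, hx⟩ := Involutions.exists_involution_of_even_card H heven
  obtain ⟨T, c, hT, rfl⟩ := exists_isT_lift hF hx
  have hc := hT.1
  have S : Setup (H.comap pr) := by
    refine ⟨hF, h4, hb.comap pr pr_surjective, fun s t hs ht => ?_, fun z hz => ?_, fun e => hH ?_, ?_⟩
    · have hord : ∀ u : 𝕊, orderOf u = 2 → orderOf (pr u) = 2 := fun u hu => by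
        obtain ⟨e, he⟩ := exists_isT_of_involution hF hu
        exact orderOf_eq_prime (by rw [← map_pow, ← hu, pow_orderOf_eq_one, map_one])
          (IsT.pr_ne_one hF he)
      obtain ⟨g, hg⟩ := isConj_iff.1 (hone _ _ (hord s hs) (hord t ht))
      obtain ⟨g, rfl⟩ := pr_surjective g
      refine isConj_iff.2 ⟨g, eq_of_pr_eq hF ?_ (by rw [← pow_two, ← ht, pow_orderOf_eq_one]) ?_⟩
      · rw [show g * s * g⁻¹ * (g * s * g⁻¹) = g * (s * s) * g⁻¹ by group, ← pow_two, ← hs,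
          pow_orderOf_eq_one]
        group
      · rw [map_mul, map_mul, map_inv, hg]
    · rw [Subgroup.mem_comap, pr_eq_one.2 hz]; exact H.one_mem
    · refine eq_top_iff.2 fun y _ => ?_
      obtain ⟨g, rfl⟩ := pr_surjective y
      have : g ∈ H.comap pr := e ▸ Subgroup.mem_top g
      exact this
    · rw [even_iff_two_dvd, ← IsT.orderOf hF hT]
      exact Subgroup.orderOf_dvd_natCard _ hxH
  have hin : InC (H.comap pr) c := ⟨T, hxH, hT⟩
  obtain ⟨p, d, hfr⟩ := exists_frame hF hc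
  refine ⟨c, hc, le_antisymm (fun y hy => ?_) fun y hy => ?_⟩
  · obtain ⟨A, rfl⟩ := pr_surjective y
    obtain ⟨Z, hZ, s, hs, hA⟩ := S.structure_one hfr hin (show A ∈ H.comap pr from hy)
    exact ⟨Z⁻¹ * A, s, hs, hA, by rw [map_mul, map_inv, pr_eq_one.2 hZ, inv_one, one_mul]⟩
  · obtain ⟨A, s, hs, hA, rfl⟩ := hy
    exact S.mem_tv hin hs hA

/-- **Binary actions of `PSU₃(q)` with point stabilisers of even order.** -/
theorem binary_iff (h4 : 4 ≤ q) (hone : ∀ s t : 𝔾, orderOf s = 2 → orderOf t = 2 → IsConj s t)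
    (H : Subgroup 𝔾) (hH : H ≠ ⊤) (heven : Even (Nat.card H)) :
    IsBinary H ↔ ∃ P : Sylow 2 𝔾,
      H = (Subgroup.center ↥(P : Subgroup 𝔾)).map (P : Subgroup 𝔾).subtype := by
  constructor
  · intro hb
    obtain ⟨c, hc, rfl⟩ := eq_zc_of_binary hF h4 hb hone hH heven
    exact exists_sylow_zc hF hc
  · rintro ⟨P, rfl⟩
    obtain ⟨c, hc, h, -⟩ := sylow_center hF P
    rw [h]
    exact isBinary_zc hF hc

end CfsgLib.BinaryUnitary
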