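import Cfsg.Agent.Lib.BinaryUnitary.Fix

/-!
Orthonormal triples adapted to a frame, swaps of unit vectors, and field elements.
-/

set_option autoImplicit false
set_option linter.unusedSectionVars false

namespace CfsgLib.BinaryUnitary

open Matrix CfsgLib.ClassicalGroups

variable {F : Type*} [Field F] [Fintype F] [CharP F 2] {q : ℕ}

local notation "𝕙" => Cfsg.hermForm 3 F q
local notation "𝕊" => Cfsg.SU 3 F q

variable (hF : Fintype.card F = q ^ 2)
include hF

theorem even_q : Even q := by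
  obtain ⟨p, n, hp, hcp, hn⟩ := herm_exists_prime_pow hF
  have hp2 : p = 2 := CharP.eq F hcp ‹CharP F 2›
  have := herm_two_le hF
  subst hp2
  rw [hn]
  exact Nat.even_pow.2 ⟨even_two, fun e => by rw [e, pow_zero] at hn; omega⟩

theorem fixed_add_conj (x : F) : (x + x ^ q) ^ q = x + x ^ q := by
  rw [conj_add hF, conj_conj' hF, add_comm]

theorem fixed_norm (x : F) : (x ^ (q + 1)) ^ q = x ^ (q + 1) := by
  rw [pow_succ, mul_pow, conj_conj' hF, mul_comm]

/-- A field element of trace one. -/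
theorem exists_eta : ∃ e : F, e + e ^ q = 1 := exists_trace hF (one_pow q)

/-- A norm one element whose cube is not one. -/
theorem exists_zeta (h4 : 4 ≤ q) : ∃ z : F, z ^ (q + 1) = 1 ∧ z ^ 3 ≠ 1 := by
  classical
  by_contra! h
  have hle : (powMonoidHom (q + 1) : Fˣ →* Fˣ).ker ≤ (powMonoidHom 3 : Fˣ →* Fˣ).ker := by
    intro u hu
    exact Units.ext (by simpa using h u.1 (by simpa using congrArg Units.val (MonoidHom.mem_ker.1 hu)))
  have h1 := Subgroup.card_le_of_le hle
  rw [card_norm_one_units hF, IsCyclic.card_powMonoidHom_ker] at h1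
  have h2 : (Nat.card Fˣ).gcd 3 ≤ 3 := Nat.gcd_le_right _ (by norm_num)
  omega

/-- An element whose cube is not fixed by the automorphism. -/
theorem exists_cube_not_fixed (h4 : 4 ≤ q) : ∃ z : F, z ≠ 0 ∧ z ^ 3 + (z ^ 3) ^ q ≠ 0 := by
  obtain ⟨z, hz, hz3⟩ := exists_zeta hF h4
  obtain ⟨a, ha, haq⟩ := exists_hilbert90 hF hz
  refine ⟨a, ha, fun h => hz3 ?_⟩
  rw [pow_right_comm, haq, mul_pow] at h
  have h1 := CharTwo.add_eq_zero.1 h
  have ha3 : a ^ 3 ≠ 0 := pow_ne_zero _ ha
  exact (mul_right_eq_self₀.1 (by rw [mul_comm]; exact h1.symm)).resolve_right ha3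

variable {u v : Fin 3 → F}

/-- Two orthogonal unit vectors are exchanged by a transvection. -/
theorem exists_swap (hu : 𝕙 u u = 1) (hv : 𝕙 v v = 1) (huv : 𝕙 u v = 0) :
    ∃ A : 𝕊, IsT A (u + v) ∧ ap A u = v ∧ ap A v = u ∧
      ∀ w, 𝕙 w u = 0 → 𝕙 w v = 0 → ap A w = w := by
  have hvu : 𝕙 v u = 0 := by rw [hermForm_symm hF 3 u v, huv, conj_zero hF]
  have huu : 𝕙 u (u + v) = 1 := by rw [hermForm_add_right hF, hu, huv, add_zero]
  have hvv : 𝕙 v (u + v) = 1 := by rw [hermForm_add_right hF, hvu, hv, zero_add]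
  have hcc : 𝕙 (u + v) (u + v) = 0 := by
    rw [hermForm_add_left, huu, hvv, CharTwo.add_self_eq_zero]
  obtain ⟨A, hA⟩ := exists_tv hF hcc (one_pow q)
  refine ⟨A, ⟨⟨fun e => ?_, hcc⟩, 1, one_ne_zero, one_pow q, hA⟩, ?_, ?_, fun w h1 h2 =>
    hA.orth (by rw [hermForm_add_right hF, h1, h2, add_zero])⟩
  · rw [e, hermForm_zero_right hF] at huu
    exact zero_ne_one huu
  · rw [hA, huu, one_mul, one_smul, ← add_assoc]
    funext i
    simp [CharTwo.add_self_eq_zero]
  · rw [hA, hvv, one_mul, one_smul, add_left_comm]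
    funext i
    simp [CharTwo.add_self_eq_zero]

/-- An element permuting three orthogonal unit vectors cyclically. -/
theorem exists_cycle {w : Fin 3 → F} (hu : 𝕙 u u = 1) (hv : 𝕙 v v = 1) (hw : 𝕙 w w = 1)
    (huv : 𝕙 u v = 0) (hwu : 𝕙 w u = 0) (hwv : 𝕙 w v = 0) :
    ∃ g : 𝕊, ap g u = v ∧ ap g v = w ∧ ap g w = u := by
  have hvw : 𝕙 v w = 0 := by rw [hermForm_symm hF 3 w v, hwv, conj_zero hF]
  have huw : 𝕙 u w = 0 := by rw [hermForm_symm hF 3 w u, hwu, conj_zero hF]
  obtain ⟨A, -, a1, a2, a3⟩ := exists_swap hF hu hv huv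
  obtain ⟨B, -, b1, b2, b3⟩ := exists_swap hF hv hw hvw
  refine ⟨A * B, ?_, ?_, ?_⟩ <;> rw [ap_mul]
  · rw [b3 u huv huw, a1]
  · rw [b1, a3 w hwu hwv]
  · rw [b2, a2]

variable {c p d : Fin 3 → F}

theorem IsFr.e_unit (h : IsFr q c p d) (e : F) : 𝕙 (e • c + d) (e • c + d) = e + e ^ q := by
  have := h.h_comb hF e 0 1 e 0 1
  simpa [conj_zero hF] using this

theorem IsFr.e_p (h : IsFr q c p d) (e : F) : 𝕙 (e • c + d) p = 0 := by
  rw [hermForm_add_left, hermForm_smul_left, h.cp hF, h.dp hF, mul_zero, add_zero]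

theorem IsFr.p_e (h : IsFr q c p d) (e : F) : 𝕙 p (e • c + d) = 0 := by
  rw [hermForm_add_right hF, hermForm_smul_right, h.pc, h.pd, mul_zero, add_zero]

theorem IsFr.e_e (h : IsFr q c p d) (e f : F) : 𝕙 (e • c + d) (f • c + d) = e + f ^ q := by
  have := h.h_comb hF e 0 1 f 0 1
  simpa [conj_zero hF] using this

/-- The second unit vector. -/
theorem IsFr.second (h : IsFr q c p d) {e : F} (he : e + e ^ q = 1) :
    𝕙 ((e + 1) • c + d) ((e + 1) • c + d) = 1 ∧ 𝕙 (e • c + d) ((e + 1) • c + d) = 0 := by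
  constructor
  · rw [h.e_unit hF, conj_add hF, one_pow]
    linear_combination he + CharTwo.add_self_eq_zero (1 : F)
  · rw [h.e_e hF, conj_add hF, one_pow]
    linear_combination he + CharTwo.add_self_eq_zero (1 : F)

/-- Elements agreeing on two unit vectors of the plane and on `p` are equal. -/
theorem IsFr.ap_ext_e (h : IsFr q c p d) (e : F) {g k : 𝕊}
    (h1 : ap g (e • c + d) = ap k (e • c + d))
    (h2 : ap g ((e + 1) • c + d) = ap k ((e + 1) • c + d)) (h3 : ap g p = ap k p) : g = k := by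
  have hc : c = (e • c + d) + ((e + 1) • c + d) := by
    funext i
    simp only [Pi.add_apply, Pi.smul_apply, smul_eq_mul]
    linear_combination -CharTwo.add_self_eq_zero (e * c i) - CharTwo.add_self_eq_zero (d i)
  have hc' : ap g c = ap k c := by
    have h12 : ap g ((e • c + d) + ((e + 1) • c + d)) = ap k ((e • c + d) + ((e + 1) • c + d)) := by
      rw [ap_add g, ap_add k, h1, h2]
    rwa [← hc] at h12
  have hd : d = (e • c + d) + e • c := by
    funext i
    simp only [Pi.add_apply, Pi.smul_apply, smul_eq_mul]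
    linear_combination -CharTwo.add_self_eq_zero (e * c i)
  refine h.ap_ext hF hc' h3 ?_
  rw [hd, ap_add g, ap_add k, ap_smul g, ap_smul k, h1, hc']

end CfsgLib.BinaryUnitary
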