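import Cfsg.Agent.Lib.BinaryUnitary.Vec

/-!
Transvections of `SU₃(q)`, `q` even: they are the involutions; two of them commute exactly when they
have the same centre.
-/

set_option autoImplicit false
set_option linter.unusedSectionVars false

namespace CfsgLib.BinaryUnitary

open Matrix CfsgLib.ClassicalGroups

variable {F : Type*} [Field F] [Fintype F] [CharP F 2] {q : ℕ}

local notation "𝕙" => Cfsg.hermForm 3 F q
local notation "𝕊" => Cfsg.SU 3 F q

/-- `A` is `x ↦ x + s h(x,c) c`. -/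
def TV (A : Cfsg.SU 3 F q) (c : Fin 3 → F) (s : F) : Prop :=
  ∀ x, ap A x = x + (s * Cfsg.hermForm 3 F q x c) • c

/-- `A` is a transvection with centre `c`. -/
def IsT (A : Cfsg.SU 3 F q) (c : Fin 3 → F) : Prop :=
  Iso q c ∧ ∃ s : F, s ≠ 0 ∧ s ^ q = s ∧ TV A c s

theorem TV.unique {A B : 𝕊} {c : Fin 3 → F} {s : F} (hA : TV A c s) (hB : TV B c s) : A = B :=
  ap_ext fun x => (hA x).trans (hB x).symm

theorem TV.self {A : 𝕊} {c : Fin 3 → F} {s : F} (hA : TV A c s) (hc : 𝕙 c c = 0) : ap A c = c := by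
  rw [hA, hc, mul_zero, zero_smul, add_zero]

theorem TV.orth {A : 𝕊} {c : Fin 3 → F} {s : F} (hA : TV A c s) {x : Fin 3 → F} (hx : 𝕙 x c = 0) :
    ap A x = x := by rw [hA, hx, mul_zero, zero_smul, add_zero]

theorem TV.zero {A : 𝕊} {c : Fin 3 → F} (hA : TV A c 0) : A = 1 :=
  ap_ext fun x => by rw [hA, zero_mul, zero_smul, add_zero, ap_one]

theorem TV.mul {A B : 𝕊} {c : Fin 3 → F} {s t : F} (hA : TV A c s) (hB : TV B c t)
    (hc : 𝕙 c c = 0) : TV (A * B) c (s + t) := fun x => by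
  rw [ap_mul, hB, ap_add, ap_smul, hA.self hc, hA]
  module

theorem TV.conj {A : 𝕊} {c : Fin 3 → F} {s : F} (hA : TV A c s) (g : 𝕊) :
    TV (g * A * g⁻¹) (ap g c) s := fun x => by
  rw [ap_mul, ap_mul, hA, ap_add, ap_smul, ap_ap_inv]
  congr 3
  rw [← ap_h g, ap_ap_inv]

theorem TV.sq {A : 𝕊} {c : Fin 3 → F} {s : F} (hA : TV A c s) (hc : 𝕙 c c = 0) : A * A = 1 :=
  TV.zero (c := c) (by rw [← CharTwo.add_self_eq_zero s]; exact hA.mul hA hc)

theorem TV.comm {A B : 𝕊} {c : Fin 3 → F} {s t : F} (hA : TV A c s) (hB : TV B c t)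
    (hc : 𝕙 c c = 0) : A * B = B * A :=
  (hA.mul hB hc).unique (by rw [add_comm]; exact hB.mul hA hc)

theorem IsT.map {A : 𝕊} {c : Fin 3 → F} (hA : IsT A c) (g : 𝕊) : IsT (g * A * g⁻¹) (ap g c) := by
  obtain ⟨hc, s, h1, h2, h3⟩ := hA
  exact ⟨hc.map g, s, h1, h2, h3.conj g⟩

theorem IsT.comm {A B : 𝕊} {c : Fin 3 → F} (hA : IsT A c) (hB : IsT B c) : A * B = B * A := by
  obtain ⟨hc, s, -, -, h⟩ := hA
  obtain ⟨-, t, -, -, h'⟩ := hB
  exact h.comm h' hc.2

variable (hF : Fintype.card F = q ^ 2)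
include hF

theorem TV.scale {A : 𝕊} {c : Fin 3 → F} {s k : F} (hA : TV A c s) (hk : k ≠ 0) :
    TV A (k • c) (s / k ^ (q + 1)) := fun x => by
  rw [hA, hermForm_smul_right, smul_smul]
  congr 2
  have := pow_ne_zero q hk
  rw [pow_succ]
  field_simp

theorem IsT.smul {A : 𝕊} {c : Fin 3 → F} (hA : IsT A c) {k : F} (hk : k ≠ 0) : IsT A (k • c) := by
  obtain ⟨hc, s, h1, h2, h3⟩ := hA
  refine ⟨hc.smul hk, _, div_ne_zero h1 (pow_ne_zero _ hk), ?_, h3.scale hF hk⟩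
  rw [div_pow, h2, pow_succ, mul_pow, conj_conj' hF, mul_comm]

theorem exists_tv {c : Fin 3 → F} (hc : 𝕙 c c = 0) {s : F} (hs : s ^ q = s) :
    ∃ A : 𝕊, TV A c s := by
  obtain ⟨A, hA⟩ := exists_SU_tv hF hc (show s ^ q = -s by rw [CharTwo.neg_eq, hs])
  exact ⟨A, fun x => by rw [ap, hA, unitaryTransvection_mulVec]⟩

theorem exists_isT {c : Fin 3 → F} (hc : Iso q c) : ∃ A : 𝕊, IsT A c := by
  obtain ⟨A, hA⟩ := exists_tv hF hc.2 (one_pow q)
  exact ⟨A, hc, 1, one_ne_zero, one_pow q, hA⟩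

theorem IsT.orderOf {A : 𝕊} {c : Fin 3 → F} (hA : IsT A c) : orderOf A = 2 := by
  obtain ⟨hc, s, hs, -, h⟩ := hA
  refine orderOf_eq_prime (by rw [pow_two, h.sq hc.2]) fun e => ?_
  obtain ⟨p, d, hfr⟩ := exists_frame hF hc
  have h1 := h d
  rw [e, ap_one, hfr.dc hF, mul_one] at h1
  exact hs ((smul_eq_zero.1 (add_eq_left.1 h1.symm)).resolve_right hc.1)

/-- An isotropic vector whose line is fixed by a transvection is orthogonal to the centre. -/
theorem IsT.h_eq_zero_of_fix {A : 𝕊} {c e : Fin 3 → F} (hA : IsT A c) (he : 𝕙 e e = 0) {k : F}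
    (hk : ap A e = k • e) : 𝕙 e c = 0 := by
  obtain ⟨hc, s, hs, -, h⟩ := hA
  have h1 := congrArg (fun v => 𝕙 v e) hk
  simp only [h e, hermForm_add_left, hermForm_smul_left, he, mul_zero, zero_add] at h1
  rw [mul_assoc, hermForm_symm hF 3 e c, ← pow_succ'] at h1
  exact eq_zero_of_pow_eq_zero ((mul_eq_zero.1 h1).resolve_left hs)

theorem IsT.h_eq_zero_of_isT {A : 𝕊} {c e : Fin 3 → F} (hA : IsT A c) (he : IsT A e) :
    𝕙 e c = 0 := by
  obtain ⟨he', t, -, -, ht⟩ := he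
  exact hA.h_eq_zero_of_fix hF he'.2 (k := 1) (by rw [one_smul, ht.self he'.2])

theorem IsT.h_eq_zero_of_comm {A B : 𝕊} {c e : Fin 3 → F} (hA : IsT A c) (hB : IsT B e)
    (hc : A * B = B * A) : 𝕙 e c = 0 := by
  have h1 := hA.map B
  rw [← hc, mul_inv_cancel_right] at h1
  have h2 : 𝕙 (ap B c) c = 0 := hA.h_eq_zero_of_isT hF h1
  obtain ⟨⟨-, hcc⟩, -⟩ := hA
  obtain ⟨-, t, ht, -, h3⟩ := hB
  rw [h3, hermForm_add_left, hermForm_smul_left, hcc, zero_add, mul_assoc,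
    hermForm_symm hF 3 e c, ← pow_succ] at h2
  have h4 := (mul_eq_zero.1 h2).resolve_left ht
  exact eq_zero_of_pow_eq_zero h4

/-- Every involution is a transvection. -/
theorem exists_isT_of_involution {A : 𝕊} (hA : _root_.orderOf A = 2) : ∃ c, IsT A c := by
  have hA2 : ∀ x, ap A (ap A x) = x := fun x => by
    rw [← ap_mul, ← pow_two, ← hA, pow_orderOf_eq_one, ap_one]
  obtain ⟨x₀, hx₀⟩ : ∃ x, ap A x ≠ x := by
    by_contra! h
    have : A = 1 := ap_ext fun x => by rw [h, ap_one]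
    rw [this, orderOf_one] at hA
    exact absurd hA (by decide)
  set c := ap A x₀ + x₀ with hcdef
  have hperp : ∀ x y, 𝕙 (ap A x + x) (ap A y + y) = 0 := by
    intro x y
    have h1 : 𝕙 (ap A x) y = 𝕙 x (ap A y) := by
      conv_lhs => rw [← hA2 y, ap_h]
    rw [hermForm_add_left, hermForm_add_right hF, hermForm_add_right hF, ap_h, h1]
    linear_combination CharTwo.add_self_eq_zero (𝕙 x y) + CharTwo.add_self_eq_zero (𝕙 x (ap A y))
  have hc : Iso q c := ⟨fun e => hx₀ (CharTwo.add_eq_zero.1 e), hperp _ _⟩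
  obtain ⟨p, d, hfr⟩ := exists_frame hF hc
  choose f hf using fun x => dep_of_orth hF hc (hperp x x) (hperp x x₀)
  have hAx : ∀ x, ap A x = x + f x • c := fun x => by
    rw [← hf x, add_comm (ap A x) x, ← add_assoc, CharTwo.add_self_eq_zero, zero_add]
  have hc1 : ap A c = c := by rw [hcdef, ap_add, hA2, add_comm]
  have hfx : ∀ x, f x = (f d) ^ q * 𝕙 x c := by
    intro x
    have h1 := ap_h A x d
    rw [hAx x, hAx d, hermForm_add_left, hermForm_add_right hF, hermForm_add_right hF,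
      hermForm_smul_left, hermForm_smul_left, hermForm_smul_right, hermForm_smul_right, hfr.cd,
      hfr.cc] at h1
    exact CharTwo.add_eq_zero.1 (by linear_combination h1)
  have hd : f d = (f d) ^ q := by simpa [hfr.dc hF] using hfx d
  refine ⟨c, hc, f d, fun e => hx₀ ?_, hd.symm, fun x => ?_⟩
  · rw [hAx, hfx, e, conj_zero hF, zero_mul, zero_smul, add_zero]
  · rw [hAx, hfx, ← hd]

end CfsgLib.BinaryUnitary
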