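import Cfsg.Agent.S5736
import Cfsg.Agent.S5737
import Cfsg.Agent.Lib.BinaryUnitary.Main

/-!
Binary actions with point stabilisers of even order in the three families, for groups given up to
isomorphism.
-/

set_option autoImplicit false
set_option linter.style.haveILetI false

namespace CfsgLib.BinaryUnitary

open CfsgLib.BinaryAct

theorem comap_ne_top {G K : Type*} [Group G] [Group K] (e : K ≃* G) {H : Subgroup G} (hH : H ≠ ⊤) :
    H.comap e.toMonoidHom ≠ ⊤ := fun h => hH (eq_top_iff.2 fun x _ => by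
  have h1 : e.symm x ∈ H.comap e.toMonoidHom := h ▸ Subgroup.mem_top _
  rwa [Subgroup.mem_comap, MulEquiv.coe_toMonoidHom, e.apply_symm_apply] at h1)

theorem card_comap {G K : Type*} [Group G] [Group K] (e : K ≃* G) (H : Subgroup G) :
    Nat.card (H.comap e.toMonoidHom) = Nat.card H :=
  Nat.card_congr
    { toFun := fun x => ⟨e x.1, x.2⟩
      invFun := fun y => ⟨e.symm y.1, show e (e.symm y.1) ∈ H by rw [e.apply_symm_apply]; exact y.2⟩
      left_inv := fun x => Subtype.ext (e.symm_apply_apply _)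
      right_inv := fun y => Subtype.ext (e.apply_symm_apply _) }

theorem binary_comap_iff {G K : Type*} [Group G] [Group K] (e : K ≃* G) (H : Subgroup G) :
    IsBinary (H.comap e.toMonoidHom) ↔ IsBinary H := by
  refine ⟨fun h => ?_, fun h => h.comap _ e.surjective⟩
  have h1 := h.comap e.symm.toMonoidHom e.symm.surjective
  have h2 : (H.comap e.toMonoidHom).comap e.symm.toMonoidHom = H := by
    ext x
    show e (e.symm x) ∈ H ↔ x ∈ H
    rw [e.apply_symm_apply]
  rwa [h2] at h1

/-- Sylow subgroups and their centres along an isomorphism. -/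
theorem exists_sylow_center {G K : Type*} [Group G] [Group K] (e : G ≃* K) (P : Sylow 2 K) :
    ∃ Q : Sylow 2 G, (Q : Subgroup G) = (P : Subgroup K).comap e.toMonoidHom ∧
      (Subgroup.center ↥(Q : Subgroup G)).map (Q : Subgroup G).subtype =
        ((Subgroup.center ↥(P : Subgroup K)).map (P : Subgroup K).subtype).comap e.toMonoidHom := by
  refine ⟨P.comapOfInjective e.toMonoidHom e.injective (fun x _ => ⟨e.symm x, e.apply_symm_apply x⟩),
    rfl, ?_⟩
  ext x
  rw [Subgroup.mem_comap, Cfsg.Agent.S5737.mem_center_map, Cfsg.Agent.S5737.mem_center_map]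
  refine and_congr Iff.rfl ⟨fun h y hy => ?_, fun h y hy => ?_⟩
  · have h1 := congrArg e (h (e.symm y) (show e (e.symm y) ∈ (P : Subgroup K) by rwa [e.apply_symm_apply]))
    rwa [map_mul, map_mul, e.apply_symm_apply] at h1
  · have h1 := h (e y) hy
    apply e.injective
    rw [map_mul, map_mul]
    exact h1

theorem even_ne_bot {G : Type*} [Group G] {H : Subgroup G} (h : Even (Nat.card H)) : H ≠ ⊥ := fun e => by
  rw [e, Subgroup.card_bot] at h
  exact absurd h (by decide)

theorem comap_symm_comap {G K : Type*} [Group G] [Group K] (f : G ≃* K) (H : Subgroup G) :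
    (H.comap f.symm.toMonoidHom).comap f.toMonoidHom = H := by
  ext x
  show f.symm (f x) ∈ H ↔ x ∈ H
  rw [f.symm_apply_apply]

theorem charTwo_of_card {F : Type*} [Field F] [Fintype F] {n : ℕ} (h : Fintype.card F = 2 ^ n) :
    CharP F 2 := by
  obtain ⟨p, hp⟩ := CharP.exists F
  have : Fact p.Prime := ⟨CharP.char_is_prime F p⟩
  obtain ⟨m, hpr, hm⟩ := FiniteField.card F p
  have h2 : p ∣ 2 := hpr.dvd_of_dvd_pow (n := n) (h ▸ hm ▸ dvd_pow_self p m.ne_zero)
  rwa [← (Nat.prime_dvd_prime_iff_eq hpr Nat.prime_two).1 h2]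

theorem psl_case {G : Type*} [Group G] {F : Type*} [Field F] [Fintype F] {n : ℕ} (hn : 2 ≤ n)
    (hF : Fintype.card F = 2 ^ n) (f : G ≃* Matrix.ProjectiveSpecialLinearGroup (Fin 2) F)
    {H : Subgroup G} (hH : H ≠ ⊤) (heven : Even (Nat.card H)) :
    IsBinary H ↔ ∃ P : Sylow 2 G, H = P := by
  have h4 : 4 ≤ Fintype.card F := by
    rw [hF]; exact le_trans (by norm_num) (Nat.pow_le_pow_right (by norm_num) hn)
  have h5 : Fintype.card F ≠ 5 := fun h => by
    have : Even (2 ^ n) := Nat.even_pow.2 ⟨even_two, by omega⟩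
    rw [← hF, h] at this
    exact absurd this (by decide)
  constructor
  · intro hb
    rcases (Cfsg.Agent.S5736.result h4 h5 (H.comap f.symm.toMonoidHom) (comap_ne_top f.symm hH)).1
      ((binary_comap_iff f.symm H).2 hb) with h | ⟨-, P, hP⟩ | ⟨-, h⟩
    · exact absurd h (even_ne_bot (by rwa [card_comap f.symm H]))
    · obtain ⟨Q, hQ, -⟩ := exists_sylow_center f P
      exact ⟨Q, by rw [hQ, ← hP, comap_symm_comap]⟩
    · rw [card_comap f.symm H] at h
      rw [h] at heven
      exact absurd heven (by decide)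
  · rintro ⟨P, rfl⟩
    obtain ⟨Q, hQ, -⟩ := exists_sylow_center f.symm P
    refine (binary_comap_iff f.symm _).1 ?_
    exact (Cfsg.Agent.S5736.result h4 h5 _ (comap_ne_top _ hH)).2 (Or.inr (Or.inl ⟨⟨n, hF⟩, Q, hQ.symm⟩))

theorem suzuki_case {G : Type*} [Group G] {F : Type*} [Field F] [Fintype F] {m : ℕ} (hm : 1 ≤ m)
    (hF : Fintype.card F = 2 ^ (2 * m + 1)) (f : G ≃* Cfsg.Lie.Sz F (2 ^ (m + 1)))
    {H : Subgroup G} (hH : H ≠ ⊤) (heven : Even (Nat.card H)) :
    IsBinary H ↔
      ∃ P : Sylow 2 G, H = (Subgroup.center ↥(P : Subgroup G)).map (P : Subgroup G).subtype := by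
  constructor
  · intro hb
    rcases (Cfsg.Agent.S5737.result m hm hF (H.comap f.symm.toMonoidHom) (comap_ne_top f.symm hH)).1
      ((binary_comap_iff f.symm H).2 hb) with h | ⟨P, hP⟩
    · exact absurd h (even_ne_bot (by rwa [card_comap f.symm H]))
    · obtain ⟨Q, -, hQ⟩ := exists_sylow_center f P
      exact ⟨Q, by rw [hQ, ← hP, comap_symm_comap]⟩
  · rintro ⟨P, rfl⟩
    obtain ⟨Q, -, hQ⟩ := exists_sylow_center f.symm P
    refine (binary_comap_iff f.symm _).1 ?_
    exact (Cfsg.Agent.S5737.result m hm hF _ (comap_ne_top _ hH)).2 (Or.inr ⟨Q, hQ.symm⟩)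

theorem psu_case {G : Type*} [Group G] {F : Type*} [Field F] [Fintype F] {n : ℕ} (hn : 2 ≤ n)
    (hF : Fintype.card F = (2 ^ n) ^ 2) (f : G ≃* Cfsg.PSU 3 F (2 ^ n))
    (hone : ∀ s t : G, orderOf s = 2 → orderOf t = 2 → IsConj s t)
    {H : Subgroup G} (hH : H ≠ ⊤) (heven : Even (Nat.card H)) :
    IsBinary H ↔
      ∃ P : Sylow 2 G, H = (Subgroup.center ↥(P : Subgroup G)).map (P : Subgroup G).subtype := by
  haveI := charTwo_of_card (n := n * 2) (by rw [hF, pow_mul])
  have h4 : 4 ≤ 2 ^ n := le_trans (by norm_num) (Nat.pow_le_pow_right (by norm_num) hn)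
  have hone' : ∀ s t : Cfsg.PSU 3 F (2 ^ n), orderOf s = 2 → orderOf t = 2 → IsConj s t := by
    intro s t hs ht
    obtain ⟨g, hg⟩ := isConj_iff.1 (hone (f.symm s) (f.symm t) (by rw [MulEquiv.orderOf_eq, hs])
      (by rw [MulEquiv.orderOf_eq, ht]))
    refine isConj_iff.2 ⟨f g, ?_⟩
    simpa using congrArg f hg
  have h := binary_iff hF h4 hone' (H.comap f.symm.toMonoidHom) (comap_ne_top f.symm hH)
    (by rwa [card_comap f.symm H])
  rw [← binary_comap_iff f.symm H, h]
  constructor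
  · rintro ⟨P, hP⟩
    obtain ⟨Q, -, hQ⟩ := exists_sylow_center f P
    exact ⟨Q, by rw [hQ, ← hP, comap_symm_comap]⟩
  · rintro ⟨P, rfl⟩
    obtain ⟨Q, -, hQ⟩ := exists_sylow_center f.symm P
    exact ⟨Q, hQ.symm⟩

end CfsgLib.BinaryUnitary
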