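import Cfsg.Agent.Lib.ClassicalGroups.UnitarySimple
import Mathlib.Algebra.CharP.Two

/-!
Vectors for `SU₃(q)` in characteristic two: frames `(c, p, d)` made of a hyperbolic pair and a unit
vector, coordinates in them, traces, and maps between frames.
-/

set_option autoImplicit false
set_option linter.unusedSectionVars false

namespace CfsgLib.BinaryUnitary

open Matrix CfsgLib.ClassicalGroups

variable {F : Type*} [Field F] [Fintype F] [CharP F 2] {q : ℕ}

local notation "𝕙" => Cfsg.hermForm 3 F q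
local notation "𝕊" => Cfsg.SU 3 F q

/-- The action on vectors. -/
def ap (g : 𝕊) (x : Fin 3 → F) : Fin 3 → F := g.1.1 *ᵥ x

theorem ap_mul (g k : 𝕊) (x : Fin 3 → F) : ap (g * k) x = ap g (ap k x) := SU_mul_mulVec g k x

theorem ap_one (x : Fin 3 → F) : ap (1 : 𝕊) x = x := SU_one_mulVec x

theorem ap_inv_ap (g : 𝕊) (x : Fin 3 → F) : ap g⁻¹ (ap g x) = x := SU_inv_mulVec_mulVec g x

theorem ap_ap_inv (g : 𝕊) (x : Fin 3 → F) : ap g (ap g⁻¹ x) = x := SU_mulVec_inv_mulVec g x

theorem ap_add (g : 𝕊) (x y : Fin 3 → F) : ap g (x + y) = ap g x + ap g y := Matrix.mulVec_add _ _ _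

theorem ap_smul (g : 𝕊) (k : F) (x : Fin 3 → F) : ap g (k • x) = k • ap g x :=
  Matrix.mulVec_smul _ _ _

theorem ap_zero (g : 𝕊) : ap g (0 : Fin 3 → F) = 0 := Matrix.mulVec_zero _

theorem ap_h (g : 𝕊) (x y : Fin 3 → F) : 𝕙 (ap g x) (ap g y) = 𝕙 x y := mem_SU_iff.1 g.2 x y

theorem ap_ne_zero (g : 𝕊) {x : Fin 3 → F} (hx : x ≠ 0) : ap g x ≠ 0 := fun h =>
  hx (by rw [← ap_inv_ap g x, h, ap_zero])

theorem ap_ext {g k : 𝕊} (h : ∀ x, ap g x = ap k x) : g = k := SU_ext h

theorem ap_pow_smul (g : 𝕊) {x : Fin 3 → F} {m : F} (h : ap g x = m • x) :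
    ∀ n : ℕ, ap (g ^ n) x = m ^ n • x
  | 0 => by rw [pow_zero, pow_zero, one_smul, ap_one]
  | n + 1 => by rw [pow_succ, ap_mul, h, ap_smul, ap_pow_smul g h n, smul_smul, pow_succ']

theorem ap_inv_smul (g : 𝕊) {x : Fin 3 → F} {m : F} (hm : m ≠ 0) (h : ap g x = m • x) :
    ap g⁻¹ x = m⁻¹ • x := by
  have h1 := congrArg (fun v => m⁻¹ • ap g⁻¹ v) h
  simp only [ap_inv_ap, ap_smul, smul_smul, inv_mul_cancel₀ hm, one_smul] at h1
  exact h1.symm

/-- An isotropic point. -/
def Iso (q : ℕ) (c : Fin 3 → F) : Prop := c ≠ 0 ∧ Cfsg.hermForm 3 F q c c = 0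

theorem Iso.map {c : Fin 3 → F} (hc : Iso q c) (g : 𝕊) : Iso q (ap g c) :=
  ⟨ap_ne_zero g hc.1, (ap_h g c c).trans hc.2⟩

theorem Iso.smul {c : Fin 3 → F} (hc : Iso q c) {k : F} (hk : k ≠ 0) : Iso q (k • c) :=
  ⟨smul_ne_zero hk hc.1, by rw [hermForm_smul_left, hermForm_smul_right, hc.2, mul_zero, mul_zero]⟩

/-- A frame: a hyperbolic pair `(c, d)` and a unit vector `p` orthogonal to it. -/
structure IsFr (q : ℕ) (c p d : Fin 3 → F) : Prop where
  cc : Cfsg.hermForm 3 F q c c = 0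
  dd : Cfsg.hermForm 3 F q d d = 0
  cd : Cfsg.hermForm 3 F q c d = 1
  pp : Cfsg.hermForm 3 F q p p = 1
  pc : Cfsg.hermForm 3 F q p c = 0
  pd : Cfsg.hermForm 3 F q p d = 0

variable (hF : Fintype.card F = q ^ 2)
include hF

theorem q_ne_zero : q ≠ 0 := by have := herm_two_le hF; omega

theorem conj_conj' (x : F) : (x ^ q) ^ q = x := hermConj_conj hF x

theorem conj_add (x y : F) : (x + y) ^ q = x ^ q + y ^ q := herm_conj_add hF x y

theorem conj_zero : (0 : F) ^ q = 0 := zero_pow (q_ne_zero hF)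

theorem conj_eq_zero {x : F} (h : x ^ q = 0) : x = 0 := eq_zero_of_pow_eq_zero h

variable {c p d : Fin 3 → F}

theorem IsFr.dc (h : IsFr q c p d) : 𝕙 d c = 1 := by rw [hermForm_symm hF 3 c d, h.cd, one_pow]

theorem IsFr.cp (h : IsFr q c p d) : 𝕙 c p = 0 := by
  rw [hermForm_symm hF 3 p c, h.pc, conj_zero hF]

theorem IsFr.dp (h : IsFr q c p d) : 𝕙 d p = 0 := by
  rw [hermForm_symm hF 3 p d, h.pd, conj_zero hF]

theorem IsFr.h_c (h : IsFr q c p d) (x y z : F) : 𝕙 (x • c + y • p + z • d) c = z := by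
  simp [hermForm_add_left, hermForm_smul_left, h.cc, h.pc, h.dc hF]

theorem IsFr.h_p (h : IsFr q c p d) (x y z : F) : 𝕙 (x • c + y • p + z • d) p = y := by
  simp [hermForm_add_left, hermForm_smul_left, h.cp hF, h.pp, h.dp hF]

theorem IsFr.h_d (h : IsFr q c p d) (x y z : F) : 𝕙 (x • c + y • p + z • d) d = x := by
  simp [hermForm_add_left, hermForm_smul_left, h.cd, h.pd, h.dd]

theorem IsFr.h_comb (h : IsFr q c p d) (x y z x' y' z' : F) :
    𝕙 (x • c + y • p + z • d) (x' • c + y' • p + z' • d) = x * z' ^ q + y * y' ^ q + z * x' ^ q := by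
  simp only [hermForm_add_left, hermForm_add_right hF, hermForm_smul_left, hermForm_smul_right,
    h.cc, h.cd, h.cp hF, h.dc hF, h.dd, h.dp hF, h.pc, h.pd, h.pp]
  ring

theorem IsFr.li (h : IsFr q c p d) : LinearIndependent F ![c, p, d] := by
  rw [Fintype.linearIndependent_iff]
  intro g hg
  simp only [Fin.sum_univ_three, Matrix.cons_val_zero, Matrix.cons_val_one, Matrix.cons_val_two,
    Matrix.tail_cons, Matrix.head_cons] at hg
  have h0 := h.h_d hF (g 0) (g 1) (g 2)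
  have h1 := h.h_p hF (g 0) (g 1) (g 2)
  have h2 := h.h_c hF (g 0) (g 1) (g 2)
  rw [hg, hermForm_zero_left] at h0 h1 h2
  intro i
  fin_cases i
  · exact h0.symm
  · exact h1.symm
  · exact h2.symm

theorem IsFr.decomp (h : IsFr q c p d) (v : Fin 3 → F) :
    v = 𝕙 v d • c + 𝕙 v p • p + 𝕙 v c • d := by
  refine sub_eq_zero.1 ?_
  set w := v - (𝕙 v d • c + 𝕙 v p • p + 𝕙 v c • d) with hw
  have hd : 𝕙 w d = 0 := by rw [hw, hermForm_sub_left, h.h_d hF, sub_self]
  have hp : 𝕙 w p = 0 := by rw [hw, hermForm_sub_left, h.h_p hF, sub_self]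
  have hc : 𝕙 w c = 0 := by rw [hw, hermForm_sub_left, h.h_c hF, sub_self]
  have hall : ∀ u ∈ Submodule.span F (Set.range ![c, p, d]), 𝕙 w u = 0 := by
    intro u hu
    induction hu using Submodule.span_induction with
    | mem u hu =>
      obtain ⟨i, rfl⟩ := hu
      fin_cases i
      · exact hc
      · exact hp
      · exact hd
    | zero => exact hermForm_zero_right hF _
    | add u v _ _ h h' => rw [hermForm_add_right hF, h, h', add_zero]
    | smul k u _ h => rw [hermForm_smul_right, h, mul_zero]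
  have htop : Submodule.span F (Set.range ![c, p, d]) = ⊤ :=
    (h.li hF).span_eq_top_of_card_eq_finrank (by simp)
  funext i
  have := hall (Pi.single i 1) (htop ▸ Submodule.mem_top)
  rwa [hermForm_single_right hF] at this

theorem IsFr.ap_ext (h : IsFr q c p d) {g k : 𝕊} (hc : ap g c = ap k c) (hp : ap g p = ap k p)
    (hd : ap g d = ap k d) : g = k := by
  refine BinaryUnitary.ap_ext fun x => ?_
  rw [h.decomp hF x, ap_add, ap_add, ap_add, ap_add, ap_smul, ap_smul, ap_smul, ap_smul, ap_smul,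
    ap_smul, hc, hp, hd]

theorem IsFr.eq_of_coords (h : IsFr q c p d) {u v : Fin 3 → F} (hc : 𝕙 u c = 𝕙 v c)
    (hp : 𝕙 u p = 𝕙 v p) (hd : 𝕙 u d = 𝕙 v d) : u = v := by
  rw [h.decomp hF u, h.decomp hF v, hc, hp, hd]

theorem IsFr.iso (h : IsFr q c p d) : Iso q c :=
  ⟨fun e => one_ne_zero (α := F) (by rw [← h.cd, e, hermForm_zero_left]), h.cc⟩

theorem IsFr.iso_d (h : IsFr q c p d) : Iso q d :=
  ⟨fun e => one_ne_zero (α := F) (by rw [← h.cd, e, hermForm_zero_right hF]), h.dd⟩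

/-- Two non-orthogonal isotropic points lie in a frame. -/
theorem exists_frame_pair {e : Fin 3 → F} (hc : Iso q c) (he : Iso q e) (hce : 𝕙 c e ≠ 0) :
    ∃ (p : Fin 3 → F) (k : F), k ≠ 0 ∧ IsFr q c p (k • e) := by
  obtain ⟨k, hk'⟩ : ∃ k, k = ((𝕙 c e)⁻¹) ^ q := ⟨_, rfl⟩
  have hk : k ≠ 0 := by rw [hk']; exact pow_ne_zero _ (inv_ne_zero hce)
  have hkq : k ^ q = (𝕙 c e)⁻¹ := by rw [hk', conj_conj' hF]
  have hcd : 𝕙 c (k • e) = 1 := by
    rw [hermForm_smul_right, hkq, inv_mul_cancel₀ hce]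
  have hdd : 𝕙 (k • e) (k • e) = 0 := (he.smul hk).2
  obtain ⟨p, hp, hpc, hpd⟩ := exists_norm_one_perp_pair hF (le_refl 3) hc.2 hdd hcd
  exact ⟨p, k, hk, ⟨hc.2, hdd, hcd, hp, hpc, hpd⟩⟩

/-- Every isotropic point lies in a frame. -/
theorem exists_frame (hc : Iso q c) : ∃ p d, IsFr q c p d := by
  obtain ⟨e, he, hce⟩ := exists_partner hF hc.1 hc.2
  have h0 : 𝕙 c e ≠ 0 := by rw [hce]; exact one_ne_zero
  obtain ⟨p, k, -, h⟩ := exists_frame_pair hF hc
    ⟨fun e0 => h0 (by rw [e0, hermForm_zero_right hF]), he⟩ h0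
  exact ⟨p, _, h⟩

/-- Orthogonal isotropic vectors are proportional. -/
theorem dep_of_orth (hc : Iso q c) {v : Fin 3 → F} (hv : 𝕙 v v = 0) (hvc : 𝕙 v c = 0) :
    ∃ k : F, v = k • c := by
  obtain ⟨p, d, h⟩ := exists_frame hF hc
  refine ⟨𝕙 v d, ?_⟩
  have e := h.decomp hF v
  have h1 := h.h_comb hF (𝕙 v d) (𝕙 v p) (𝕙 v c) (𝕙 v d) (𝕙 v p) (𝕙 v c)
  rw [← e, hv, hvc, conj_zero hF] at h1
  have h2 : 𝕙 v p = 0 := by
    have : 𝕙 v p * (𝕙 v p) ^ q = 0 := by linear_combination -h1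
    rcases mul_eq_zero.1 this with h' | h'
    · exact h'
    · exact conj_eq_zero hF h'
  conv_lhs => rw [e, h2, hvc]
  simp

theorem orth_ne (hc : Iso q c) {v : Fin 3 → F} (hv : 𝕙 v v = 0) (h : ∀ k : F, v ≠ k • c) :
    𝕙 v c ≠ 0 := fun e => by
  obtain ⟨k, hk⟩ := dep_of_orth hF hc hv e
  exact h k hk

/-- The trace in a frame. -/
theorem IsFr.trace (h : IsFr q c p d) (g : 𝕊) :
    g.1.1.trace = 𝕙 (ap g c) d + 𝕙 (ap g p) p + 𝕙 (ap g d) c := by
  have e : ∀ j : Fin 3, g.1.1 j j =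
      (d j) ^ q * ap g c j + (p j) ^ q * ap g p j + (c j) ^ q * ap g d j := by
    intro j
    have h0 : g.1.1 j j = ap g (Pi.single j 1) j := by
      rw [ap, Matrix.mulVec_single_one]; rfl
    have hs : ∀ u : Fin 3 → F, 𝕙 (Pi.single j 1) u = (u j) ^ q := fun u => by
      rw [hermForm_symm hF 3 u, hermForm_single_right hF]
    rw [h0, h.decomp hF (Pi.single j 1), ap_add, ap_add, ap_smul, ap_smul, ap_smul, hs, hs, hs]
    rfl
  simp only [Matrix.trace, Matrix.diag, e, Cfsg.hermForm, ← Finset.sum_add_distrib]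
  exact Finset.sum_congr rfl fun j _ => by ring

omit hF in
/-- The determinant of three vectors. -/
def det3 (u v w : Fin 3 → F) : F := (Matrix.of fun i j => ![u, v, w] j i).det

omit hF in
theorem det3_ap (g : 𝕊) (u v w : Fin 3 → F) : det3 (ap g u) (ap g v) (ap g w) = det3 u v w := by
  have e : (Matrix.of fun i j => ![ap g u, ap g v, ap g w] j i) =
      g.1.1 * Matrix.of fun i j => ![u, v, w] j i := by
    ext i j
    fin_cases j <;> simp [Matrix.mul_apply, ap, Matrix.mulVec, dotProduct]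
  rw [det3, e, Matrix.det_mul, g.1.2, one_mul]
  rfl

omit hF in
theorem det3_ne_zero {u v w : Fin 3 → F} (h : LinearIndependent F ![u, v, w]) : det3 u v w ≠ 0 := by
  have h1 : IsUnit (Matrix.of fun i j => ![u, v, w] j i) := by
    rw [← Matrix.linearIndependent_cols_iff_isUnit]
    exact h
  exact ((Matrix.isUnit_iff_isUnit_det _).1 h1).ne_zero

omit hF in
theorem det3_smul (x y z : F) (u v w : Fin 3 → F) :
    det3 (x • u) (y • v) (z • w) = x * y * z * det3 u v w := by
  simp only [det3, Matrix.det_fin_three, Matrix.of_apply, Matrix.cons_val_zero, Matrix.cons_val_one,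
    Matrix.cons_val_two, Matrix.tail_cons, Matrix.head_cons, Pi.smul_apply, smul_eq_mul]
  ring

omit hF in
theorem det3_cycle (u v w : Fin 3 → F) : det3 v w u = det3 u v w := by
  simp only [det3, Matrix.det_fin_three, Matrix.of_apply, Matrix.cons_val_zero, Matrix.cons_val_one,
    Matrix.cons_val_two, Matrix.tail_cons, Matrix.head_cons]
  ring

omit hF in
theorem det3_tri (u v w : Fin 3 → F) (a b e : F) :
    det3 u (v + a • u) (w + b • v + e • u) = det3 u v w := by
  simp only [det3, Matrix.det_fin_three, Matrix.of_apply, Matrix.cons_val_zero, Matrix.cons_val_one,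
    Matrix.cons_val_two, Matrix.tail_cons, Matrix.head_cons, Pi.smul_apply, Pi.add_apply, smul_eq_mul]
  ring

/-- An element carrying three independent vectors to three others of the same Gram matrix and
determinant. -/
theorem exists_map {x y : Fin 3 → Fin 3 → F} (hx : LinearIndependent F x)
    (hy : LinearIndependent F y) (hxy : ∀ i j, 𝕙 (x i) (x j) = 𝕙 (y i) (y j))
    (hdet : det3 (x 0) (x 1) (x 2) = det3 (y 0) (y 1) (y 2)) :
    ∃ g : 𝕊, ∀ i, ap g (x i) = y i := by
  obtain ⟨g, hg⟩ := exists_GU_family hF x y hx hy hxy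
  have hx' : LinearIndependent F ![x 0, x 1, x 2] := by
    have : ![x 0, x 1, x 2] = x := by funext i; fin_cases i <;> rfl
    rwa [this]
  have e : (Matrix.of fun i j => ![y 0, y 1, y 2] j i) =
      g.1.val * Matrix.of fun i j => ![x 0, x 1, x 2] j i := by
    ext i j
    fin_cases j
    · simp [Matrix.mul_apply, ← hg 0, Matrix.mulVec, dotProduct]
    · simp [Matrix.mul_apply, ← hg 1, Matrix.mulVec, dotProduct]
    · simp [Matrix.mul_apply, ← hg 2, Matrix.mulVec, dotProduct]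
  have hd : g.1.val.det = 1 := by
    have h1 := congrArg Matrix.det e
    rw [Matrix.det_mul] at h1
    change det3 (y 0) (y 1) (y 2) = _ * det3 (x 0) (x 1) (x 2) at h1
    rw [← hdet] at h1
    exact mul_right_cancel₀ (det3_ne_zero hx') (h1.symm.trans (one_mul _).symm)
  obtain ⟨s, hs⟩ := exists_SU_of_GU g hd
  exact ⟨s, fun i => by rw [ap, hs]; exact hg i⟩

/-- An element of trace zero has order dividing three. -/
theorem pow_three_of_trace_zero (g : 𝕊) (h : g.1.1.trace = 0) : g ^ 3 = 1 := by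
  have hinv : ∀ i j, g⁻¹.1.1 j i = (g.1.1 i j) ^ q := by
    intro i j
    have h1 : g⁻¹.1.1 j i = 𝕙 (ap g⁻¹ (Pi.single i 1)) (Pi.single j 1) := by
      rw [hermForm_single_right hF, ap, Matrix.mulVec_single_one]; rfl
    have h2 : g.1.1 i j = 𝕙 (ap g (Pi.single j 1)) (Pi.single i 1) := by
      rw [hermForm_single_right hF, ap, Matrix.mulVec_single_one]; rfl
    rw [h1, h2, ← hermForm_symm hF, ← ap_h g, ap_ap_inv]
  have hadj : g.1.1.adjugate.trace = 0 := by
    have e : g⁻¹.1.1 = g.1.1.adjugate := Matrix.SpecialLinearGroup.coe_inv g.1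
    rw [← e]
    simp only [Matrix.trace, Matrix.diag, hinv]
    rw [Matrix.trace] at h
    simp only [Matrix.diag] at h
    rw [Fin.sum_univ_three] at h ⊢
    rw [← conj_add hF, ← conj_add hF, h, conj_zero hF]
  have key : ∀ A : Matrix (Fin 3) (Fin 3) F,
      A * A * A = A.trace • (A * A) - A.adjugate.trace • A + A.det • 1 := by
    intro A
    rw [Matrix.adjugate_fin_three]
    ext i j
    fin_cases i <;> fin_cases j <;>
      simp [Matrix.mul_apply, Fin.sum_univ_three, Matrix.trace, Matrix.diag, Matrix.det_fin_three] <;>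
      ring
  refine Subtype.ext (Subtype.ext ?_)
  show (g.1 ^ 3).1 = 1
  rw [pow_three', Matrix.SpecialLinearGroup.coe_mul, Matrix.SpecialLinearGroup.coe_mul, key, h, hadj,
    g.1.2]
  simp

end CfsgLib.BinaryUnitary
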